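import Cfsg.Agent.Lib.Spor.HeldCent.Code

/-!
The checks of the tables, by kernel computation.
-/

set_option autoImplicit false
set_option maxRecDepth 1000000
set_option maxHeartbeats 4000000

namespace Cfsg.Agent.Spor.HeldCent

theorem okQ_all : ∀ m ε, (dat m ε).okQ = true := by decide +kernel

theorem okV_all : ∀ m ε, (dat m ε).okV = true := by decide +kernel

theorem okTree_all : ∀ m ε, (dat m ε).okTree = true := by decide +kernel

theorem okRange_all : ∀ m ε, (dat m ε).okRange = true := by decide +kernel

theorem okSteps_all : ∀ m ε, (dat m ε).okSteps = true := by decide +kernel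

theorem okSig_all : ∀ m ε, (dat m ε).okSig = true := by decide +kernel

end Cfsg.Agent.Spor.HeldCent
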