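import Cfsg.Agent.Lib.Spor.HeldCent.Code

/-!
The check of the cocycle tables, case 0, by kernel computation.
-/

set_option autoImplicit false
set_option maxRecDepth 1000000
set_option maxHeartbeats 4000000

namespace Cfsg.Agent.Spor.HeldCent

theorem okF_0a : (dat 0 false).okF = true := by decide +kernel

theorem okF_0b : (dat 0 true).okF = true := by decide +kernel

end Cfsg.Agent.Spor.HeldCent
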