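import Cfsg.Agent.Lib.Spor.HeldCent.Coord
import Cfsg.Agent.Lib.Spor.HeldCent.Checks
import Cfsg.Agent.Lib.Spor.HeldCent.ChecksF0
import Cfsg.Agent.Lib.Spor.HeldCent.ChecksF1
import Cfsg.Agent.Lib.Spor.HeldCent.ChecksF2

/-!
All checks hold in the six cases.
-/

set_option autoImplicit false

namespace Cfsg.Agent.Spor.HeldCent

theorem dat_ok (m : Fin 3) (ε : Bool) : (dat m ε).OK := by
  refine ⟨okQ_all m ε, okV_all m ε, okTree_all m ε, okRange_all m ε, okSteps_all m ε, ?_, okSig_all m ε⟩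
  fin_cases m <;> cases ε
  exacts [okF_0a, okF_0b, okF_1a, okF_1b, okF_2a, okF_2b]

end Cfsg.Agent.Spor.HeldCent
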