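import Mathlib

/-!
In SL(3, 2), every element of order seven has an involution whose product with it has order three.
-/

set_option autoImplicit false
set_option maxRecDepth 1000000
set_option maxHeartbeats 4000000

namespace Cfsg.Agent.Spor.HeldCent

/-- the matrix of a code -/
def mat3 (n : ℕ) : Matrix (Fin 3) (Fin 3) (ZMod 2) := fun i j => ((n / 2 ^ (3 * i.val + j.val) % 2 : ℕ) : ZMod 2)

/-- the code of a matrix -/
def enc3 (M : Matrix (Fin 3) (Fin 3) (ZMod 2)) : ℕ :=
  (M 0 0).val + 2 * (M 0 1).val + 4 * (M 0 2).val + 8 * (M 1 0).val + 16 * (M 1 1).val + 32 * (M 1 2).val +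
    64 * (M 2 0).val + 128 * (M 2 1).val + 256 * (M 2 2).val

theorem enc3_lt (M : Matrix (Fin 3) (Fin 3) (ZMod 2)) : enc3 M < 512 := by
  unfold enc3
  have h := fun x : ZMod 2 => x.val_lt
  linarith [h (M 0 0), h (M 0 1), h (M 0 2), h (M 1 0), h (M 1 1), h (M 1 2), h (M 2 0), h (M 2 1), h (M 2 2)]

theorem mat3_enc (M : Matrix (Fin 3) (Fin 3) (ZMod 2)) : mat3 (enc3 M) = M := by
  ext i j
  have h := fun x : ZMod 2 => x.val_lt
  have a := h (M 0 0); have b := h (M 0 1); have c := h (M 0 2); have d := h (M 1 0); have e := h (M 1 1)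
  have f := h (M 1 2); have g := h (M 2 0); have k := h (M 2 1); have l := h (M 2 2)
  have key : enc3 M / 2 ^ (3 * i.val + j.val) % 2 = (M i j).val := by
    unfold enc3
    fin_cases i <;> fin_cases j <;> simp only [Fin.reduceFinMk] <;> norm_num <;> omega
  show ((enc3 M / 2 ^ (3 * i.val + j.val) % 2 : ℕ) : ZMod 2) = M i j
  rw [key, ZMod.natCast_zmod_val]

/-- product of codes -/
def mul3 (a b : ℕ) : ℕ := enc3 (mat3 a * mat3 b)

theorem mat3_mul (a b : ℕ) : mat3 (mul3 a b) = mat3 a * mat3 b := mat3_enc _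

theorem mat3_one : mat3 273 = 1 := by decide +kernel

/-- the involutions -/
def invList : List ℕ :=
  [84, 124, 161, 167, 214, 233, 266, 275, 277, 279, 281, 302, 305, 309, 313, 337, 345, 401, 403, 458, 465]

theorem partner_code : ∀ q < 512, q ≠ 273 →
    mul3 q (mul3 q (mul3 q (mul3 q (mul3 q (mul3 q q))))) = 273 →
    ∃ p ∈ invList, mul3 (mul3 p q) (mul3 (mul3 p q) (mul3 p q)) = 273 := by
  decide +kernel

theorem inv_sq : ∀ p ∈ invList, mul3 p p = 273 := by decide +kernel

theorem exists_partner (g : Matrix.SpecialLinearGroup (Fin 3) (ZMod 2)) (h7 : g ^ 7 = 1) (h1 : g ≠ 1) :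
    ∃ a : Matrix.SpecialLinearGroup (Fin 3) (ZMod 2), a * a = 1 ∧ (a * g) ^ 3 = 1 := by
  set q := enc3 g.1 with hq
  have hg : mat3 q = g.1 := mat3_enc _
  have e7 : g.1 * (g.1 * (g.1 * (g.1 * (g.1 * (g.1 * g.1))))) = 1 := by
    have e : g * (g * (g * (g * (g * (g * g))))) = 1 := by
      rw [← h7]; simp only [pow_succ, pow_zero, one_mul, mul_assoc]
    exact congrArg Subtype.val e
  have hne : q ≠ 273 := fun e => h1 (Subtype.ext (by rw [← hg, e, mat3_one]; rfl))
  have hq7 : mul3 q (mul3 q (mul3 q (mul3 q (mul3 q (mul3 q q))))) = 273 := by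
    have e : ∀ M, enc3 M = enc3 (mat3 (enc3 M)) := fun M => by rw [mat3_enc]
    unfold mul3
    simp only [mat3_enc]
    rw [hg, e7]
    decide +kernel
  obtain ⟨p, hp, hp3⟩ := partner_code q (enc3_lt _) hne hq7
  have hsq : mat3 p * mat3 p = 1 := by rw [← mat3_mul, inv_sq p hp, mat3_one]
  have hdet : (mat3 p).det = 1 := by
    have hd : (mat3 p).det * (mat3 p).det = 1 := by rw [← Matrix.det_mul, hsq, Matrix.det_one]
    revert hd
    generalize (mat3 p).det = d
    revert d
    decide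
  refine ⟨⟨mat3 p, hdet⟩, Subtype.ext hsq, ?_⟩
  have e := congrArg mat3 hp3
  simp only [mat3_mul, mat3_one, hg] at e
  rw [pow_three]
  exact Subtype.ext e

end Cfsg.Agent.Spor.HeldCent
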