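import Cfsg.Agent.Lib.Spor.HeldCent.Data

/-!
Arithmetic of the codes: the extraspecial group of order 128 is written on seven bits, the whole centraliser
on pairs of such a code and a coset number below 168.
-/

set_option autoImplicit false

namespace Cfsg.Agent.Spor.HeldCent

/-- the byte at a position -/
def byteAt (n i : ℕ) : ℕ := (n >>> (8 * i)) % 256

/-- a row of a table -/
def rowAt (T : List (List ℕ)) (l : ℕ) : ℕ := (T.getD (l / 13) []).getD (l % 13) 0

/-- product in the extraspecial group -/
def qm (a b : ℕ) : ℕ :=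
  (a ^^^ b) % 64 + 64 * ((a / 64 + b / 64 + betaTab >>> ((a / 8 % 8) * 8 + b % 8)) % 2)

/-- inverse in the extraspecial group -/
def qi (a : ℕ) : ℕ :=
  a % 64 + 64 * ((a / 64 + betaTab >>> ((a / 8 % 8) * 8 + a % 8)) % 2)

/-- whether two codes fail to commute -/
def cbit (a b : ℕ) : ℕ :=
  (betaTab >>> ((a / 8 % 8) * 8 + b % 8) + betaTab >>> ((b / 8 % 8) * 8 + a % 8)) % 2

theorem qm_lt (a b : ℕ) : qm a b < 128 := by unfold qm; omega

theorem qi_lt (a : ℕ) : qi a < 128 := by unfold qi; omega

/-- The tables of one case. -/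
structure Dat where
  eps : Bool
  img : ℕ
  imT : ℕ
  phi : List (List ℕ)
  step : ℕ
  lab : ℕ
  fT : List (List ℕ)
  lmT : List (List ℕ)
  tree : List (ℕ × Bool)
  g : List Bool
  w : List Bool
  c : ℕ
  v : ℕ
  steps : List (ℕ × ℕ × ℕ)

namespace Dat

variable (D : Dat)

/-- the central code -/
def e64 : ℕ := if D.eps then 64 else 0

/-- the index of a letter -/
def bn (x : Bool) : ℕ := if x then 1 else 0

/-- image of a generator -/
def imgOf (x : Bool) (i : ℕ) : ℕ := byteAt D.img (8 * bn x + i)

/-- image of a code -/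
def im (x : Bool) (q : ℕ) : ℕ := byteAt D.imT (128 * bn x + q)

/-- image of a code computed from the generators -/
def imN (x : Bool) : ℕ → ℕ → ℕ
  | 0, _ => 0
  | i + 1, q => if q / 2 ^ i % 2 = 1 then qm (imN x i q) (D.imgOf x i) else imN x i q

/-- image under a word -/
def imw : List Bool → ℕ → ℕ
  | [], q => q
  | x :: W, q => D.im x (imw W q)

/-- next coset -/
def nxt (l : ℕ) (x : Bool) : ℕ := byteAt D.step (2 * l + bn x)

/-- label of an edge -/
def labOf (l : ℕ) (x : Bool) : ℕ := byteAt D.lab (2 * l + bn x)

/-- action of a coset representative -/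
def phiOf (l q : ℕ) : ℕ := byteAt (rowAt D.phi l) q

/-- the walk along a word: the product of the labels and the last coset -/
def chain : ℕ → List Bool → ℕ × ℕ
  | l, [] => (0, l)
  | l, x :: W => (qm (D.labOf l x) (chain (D.nxt l x) W).1, (chain (D.nxt l x) W).2)

/-- the representative words -/
def wordList : List (List Bool) :=
  D.tree.foldl (fun acc px => acc ++ [acc.getD px.1 [] ++ [px.2]]) [[]]

/-- cocycle -/
def fOf (l k : ℕ) : ℕ := byteAt (rowAt D.fT l) k

/-- product of cosets -/
def lm (l k : ℕ) : ℕ := byteAt (rowAt D.lmT l) k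

/-- product of two codes of the whole group -/
def mulC (a b : ℕ) : ℕ :=
  D.lm (a / 128) (b / 128) * 128 + qm (qm (a % 128) (D.phiOf (a / 128) (b % 128))) (D.fOf (a / 128) (b / 128))

/-- the relators with their values -/
def rels : List (List Bool × ℕ) :=
  [([false, false], D.e64), (List.replicate 7 true, 0), ([false, true, false, true, false, true], 0), (D.g ++ D.g, D.v)]

/-- the inverse word up to the centre -/
def winv : List Bool → List Bool
  | [] => []
  | x :: W => winv W ++ (if x then List.replicate 6 true else [false])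

/-- the conjugate word -/
def conjWord : List Bool := D.w ++ [false] ++ winv D.w

/-- the edges of a walk are known -/
def known (K : ℕ) : ℕ → List Bool → Bool
  | _, [] => true
  | l, x :: W => (K / 2 ^ (2 * l + bn x) % 2 == 1) && known K (D.nxt l x) W

/-- one deduction -/
def stepOK (K : ℕ) (s : ℕ × ℕ × ℕ) : Bool :=
  let R := D.rels.getD s.1 ([], 0)
  let pre := R.1.take s.2.2
  let x := R.1.getD s.2.2 false
  let suf := R.1.drop (s.2.2 + 1)
  let P := D.chain s.2.1 pre
  let S := D.chain (D.nxt P.2 x) suf
  decide (s.2.1 < 168) && decide (s.2.2 < R.1.length) && D.known K s.2.1 pre && D.known K (D.nxt P.2 x) suf &&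
    (S.2 == s.2.1) && (D.labOf P.2 x == qm (qm (qi P.1) (D.phiOf s.2.1 R.2)) (qi S.1))

/-- the edge solved by a deduction -/
def stepEdge (s : ℕ × ℕ × ℕ) : ℕ :=
  2 * (D.chain s.2.1 ((D.rels.getD s.1 ([], 0)).1.take s.2.2)).2 +
    bn ((D.rels.getD s.1 ([], 0)).1.getD s.2.2 false)

/-- all deductions -/
def stepsRun : List (ℕ × ℕ × ℕ) → ℕ → Bool
  | [], K => K == 2 ^ 336 - 1
  | s :: rest, K => D.stepOK K s && decide (s.1 < D.rels.length) && stepsRun rest (K ||| 2 ^ D.stepEdge s)

/-- the tree edges -/
def treeMask : ℕ := (D.tree.map fun px => 2 ^ (2 * px.1 + bn px.2)).foldl (· ||| ·) 0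

end Dat

/-- the six cases -/
def dat : Fin 3 → Bool → Dat
  | 0, false => ⟨false, imgT0, imT0, phiT0, stepT0, labT00, fT00, lmT0, tree0, gWord0, wWord0, cVal0, vVal00, steps00⟩
  | 0, true => ⟨true, imgT0, imT0, phiT0, stepT0, labT01, fT01, lmT0, tree0, gWord0, wWord0, cVal0, vVal01, steps01⟩
  | 1, false => ⟨false, imgT1, imT1, phiT1, stepT1, labT10, fT10, lmT1, tree1, gWord1, wWord1, cVal1, vVal10, steps10⟩
  | 1, true => ⟨true, imgT1, imT1, phiT1, stepT1, labT11, fT11, lmT1, tree1, gWord1, wWord1, cVal1, vVal11, steps11⟩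
  | 2, false => ⟨false, imgT2, imT2, phiT2, stepT2, labT20, fT20, lmT2, tree2, gWord2, wWord2, cVal2, vVal20, steps20⟩
  | 2, true => ⟨true, imgT2, imT2, phiT2, stepT2, labT21, fT21, lmT2, tree2, gWord2, wWord2, cVal2, vVal21, steps21⟩

namespace Dat

variable (D : Dat)

/-- facts on the extraspecial codes and the two generators -/
def okQ : Bool :=
  (List.range 128).all fun q =>
    (qm (qi q) q == 0) && (qm q 0 == q) && (qm 0 q == q) &&
      ([false, true].all fun x => (D.im x q == D.imN x 7 q) && decide (D.im x q < 128) &&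
        decide (q < 7 → D.imgOf x q < 128)) &&
      (D.im false (D.im false q) == q) &&
      (D.im false (D.im true (D.im false (D.im true (D.im false (D.im true q))))) == q) &&
      (D.imw D.g q == qm (qm D.c (D.imw D.conjWord q)) (qi D.c))

/-- the value of the involution relator -/
def okV : Bool :=
  (D.v == qm (qm D.c (D.imw D.conjWord D.c)) D.e64) && decide (D.c < 128) && decide (D.v < 128)

/-- the tree and the actions of the representatives -/
def okTree : Bool :=
  decide (D.tree.length = 167) && decide (D.wordList.length = 168) &&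
    ((List.range 128).all fun q => D.phiOf 0 q == q) &&
    ((List.range 167).all fun k =>
      let px := D.tree.getD k (0, false)
      decide (px.1 ≤ k) && (D.nxt px.1 px.2 == k + 1) && (D.labOf px.1 px.2 == 0) &&
        (D.wordList.getD (k + 1) [] == D.wordList.getD px.1 [] ++ [px.2]) &&
        ((List.range 128).all fun q => D.phiOf (k + 1) q == D.phiOf px.1 (D.im px.2 q))) &&
    (D.wordList.getD 0 [] == [])

/-- the ranges of the tables -/
def okRange : Bool :=
  (List.range 168).all fun l =>
    ([false, true].all fun x => decide (D.nxt l x < 168) && decide (D.labOf l x < 128)) &&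
      ((List.range 128).all fun q => decide (D.phiOf l q < 128))

/-- the deductions -/
def okSteps : Bool :=
  D.stepsRun D.steps D.treeMask

/-- the cocycle table -/
def okF : Bool :=
  (List.range 168).all fun l => (List.range 168).all fun k =>
    let c := D.chain l (D.wordList.getD k [])
    (D.fOf l k == c.1) && (D.lm l k == c.2) && decide (c.2 < 168)

/-- the representatives act differently -/
def sig (l : ℕ) : ℕ :=
  ((List.range 6).map fun i => D.phiOf l (2 ^ i) % 64).foldl (fun s b => 64 * s + b) 0

/-- distinctness -/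
def okSig : Bool :=
  decide (((List.range 168).map D.sig).Nodup)

end Dat

end Cfsg.Agent.Spor.HeldCent
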