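import Mathlib
import Cfsg.Agent.Lib.Spor.HeldCent.Code

/-!
A group of order 21504 satisfying the relations of one case is the coded group: every element is uniquely a
product of a code of the extraspecial group and a coset representative, and products are given by the tables.
-/

set_option autoImplicit false
set_option maxRecDepth 100000

namespace Cfsg.Agent.Spor.HeldCent

universe u

/-- All checks of one case. -/
structure Dat.OK (D : Dat) : Prop where
  q : D.okQ = true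
  v : D.okV = true
  tree : D.okTree = true
  range : D.okRange = true
  steps : D.okSteps = true
  f : D.okF = true
  sig : D.okSig = true

/-- Coordinates and relations of one case in a group. -/
structure Sys (C : Type u) [Group C] (D : Dat) where
  ev : ℕ → C
  hmul : ∀ a b, a < 128 → b < 128 → ev a * ev b = ev (qm a b)
  inj : ∀ a b, a < 128 → b < 128 → ev a = ev b → a = b
  gx : Bool → C
  conj : ∀ x i, i < 7 → gx x * ev (2 ^ i) * (gx x)⁻¹ = ev (D.imgOf x i)
  rel : ∀ r ∈ D.rels, (r.1.map gx).prod = ev r.2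

theorem low_ok : ∀ q < 128, ∀ i < 7, q / 2 ^ i % 2 = 1 → q % 2 ^ (i + 1) = qm (q % 2 ^ i) (2 ^ i) := by
  decide +kernel

theorem qm_self_idem : qm 0 0 = 0 := by decide +kernel

theorem qm_mod (a b : ℕ) : qm a b % 64 = (a % 64) ^^^ (b % 64) := by
  have h : (a ^^^ b) % 64 = (a % 64) ^^^ (b % 64) := Nat.xor_mod_two_pow (n := 6)
  rw [← h, qm]; omega

theorem qi_mod (a : ℕ) : qi a % 64 = a % 64 := by unfold qi; omega

theorem bn_cases (x : Bool) : Dat.bn x < 2 := by cases x <;> simp [Dat.bn]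

theorem edge_index {l l' : ℕ} {x x' : Bool} (h : 2 * l + Dat.bn x = 2 * l' + Dat.bn x') : l = l' ∧ x = x' := by
  have h1 := bn_cases x
  have h2 := bn_cases x'
  refine ⟨by omega, ?_⟩
  cases x <;> cases x' <;> simp_all [Dat.bn] <;> omega

theorem div_mod_iff (K e : ℕ) : K / 2 ^ e % 2 = 1 ↔ K.testBit e = true := by
  simp [Nat.testBit_eq_decide_div_mod_eq]

theorem foldl_or_bit : ∀ (L : List ℕ) (a e : ℕ), (L.foldl (· ||| ·) a).testBit e = true →
    a.testBit e = true ∨ ∃ b ∈ L, b.testBit e = true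
  | [], a, e, h => Or.inl h
  | b :: L, a, e, h => by
    rcases foldl_or_bit L (a ||| b) e h with h' | ⟨c, hc, h'⟩
    · rw [Nat.testBit_or, Bool.or_eq_true] at h'
      exact h'.imp id fun hb => ⟨b, List.mem_cons_self, hb⟩
    · exact Or.inr ⟨c, List.mem_cons_of_mem _ hc, h'⟩

namespace Dat

variable {D : Dat}

theorem range_nxt (h : D.OK) {l : ℕ} (hl : l < 168) (x : Bool) : D.nxt l x < 168 ∧ D.labOf l x < 128 := by
  have := h.range
  simp only [okRange, List.all_eq_true, Bool.and_eq_true, decide_eq_true_eq] at this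
  exact (this l (List.mem_range.2 hl)).1 x (by cases x <;> simp)

theorem range_phi (h : D.OK) {l q : ℕ} (hl : l < 168) (hq : q < 128) : D.phiOf l q < 128 := by
  have := h.range
  simp only [okRange, List.all_eq_true, Bool.and_eq_true, decide_eq_true_eq] at this
  exact (this l (List.mem_range.2 hl)).2 q (List.mem_range.2 hq)

theorem q_facts (h : D.OK) {q : ℕ} (hq : q < 128) :
    qm (qi q) q = 0 ∧ qm q 0 = q ∧ qm 0 q = q ∧ (∀ x : Bool, D.im x q = D.imN x 7 q ∧ D.im x q < 128 ∧ (q < 7 → D.imgOf x q < 128)) ∧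
      D.im false (D.im false q) = q ∧
      D.im false (D.im true (D.im false (D.im true (D.im false (D.im true q))))) = q ∧
      D.imw D.g q = qm (qm D.c (D.imw D.conjWord q)) (qi D.c) := by
  have := h.q
  simp only [okQ, List.all_eq_true, Bool.and_eq_true, decide_eq_true_eq, beq_iff_eq] at this
  obtain ⟨⟨⟨⟨⟨⟨a, b⟩, c⟩, d⟩, e⟩, f⟩, g⟩ := this q (List.mem_range.2 hq)
  exact ⟨a, b, c, fun x => and_assoc.1 (d x (by cases x <;> simp)), e, f, g⟩

theorem imw_lt (h : D.OK) : ∀ (W : List Bool) {q : ℕ}, q < 128 → D.imw W q < 128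
  | [], _, hq => hq
  | x :: W, _, hq => ((q_facts h (imw_lt h W hq)).2.2.2.1 x).2.1

theorem v_facts (h : D.OK) :
    D.v = qm (qm D.c (D.imw D.conjWord D.c)) D.e64 ∧ D.c < 128 ∧ D.v < 128 := by
  have := h.v
  simp only [okV, Bool.and_eq_true, decide_eq_true_eq, beq_iff_eq] at this
  exact ⟨this.1.1, this.1.2, this.2⟩

theorem e64_lt : D.e64 < 128 := by unfold e64; split <;> norm_num

theorem rels_lt (h : D.OK) {r : List Bool × ℕ} (hr : r ∈ D.rels) : r.2 < 128 := by
  simp only [rels, List.mem_cons, List.mem_nil_iff, or_false] at hr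
  rcases hr with rfl | rfl | rfl | rfl
  exacts [e64_lt, by norm_num, by norm_num, (v_facts h).2.2]

theorem tree_facts (h : D.OK) :
    D.tree.length = 167 ∧ D.wordList.getD 0 [] = [] ∧ (∀ q < 128, D.phiOf 0 q = q) ∧
      ∀ k < 167, (D.tree.getD k (0, false)).1 ≤ k ∧
        D.nxt (D.tree.getD k (0, false)).1 (D.tree.getD k (0, false)).2 = k + 1 ∧
        D.labOf (D.tree.getD k (0, false)).1 (D.tree.getD k (0, false)).2 = 0 ∧
        D.wordList.getD (k + 1) [] =
          D.wordList.getD (D.tree.getD k (0, false)).1 [] ++ [(D.tree.getD k (0, false)).2] ∧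
        ∀ q < 128, D.phiOf (k + 1) q =
          D.phiOf (D.tree.getD k (0, false)).1 (D.im (D.tree.getD k (0, false)).2 q) := by
  have := h.tree
  simp only [okTree, List.all_eq_true, Bool.and_eq_true, decide_eq_true_eq, beq_iff_eq, List.mem_range] at this
  obtain ⟨⟨⟨⟨h1, -⟩, h2⟩, h3⟩, h4⟩ := this
  refine ⟨h1, h4, h2, fun k hk => ?_⟩
  obtain ⟨⟨⟨⟨a, b⟩, c⟩, d⟩, e⟩ := h3 k hk
  exact ⟨a, b, c, d, e⟩

theorem tree_mem (h : D.OK) {px : ℕ × Bool} (hp : px ∈ D.tree) : ∃ k < 167, D.tree.getD k (0, false) = px := by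
  obtain ⟨k, hk, e⟩ := List.getElem_of_mem hp
  exact ⟨k, (tree_facts h).1 ▸ hk, (List.getD_eq_getElem _ _ hk).trans e⟩

end Dat

namespace Sys

variable {C : Type u} [Group C] {D : Dat}

/-- the value of a word -/
def pr (S : Sys C D) (R : List Bool) : C := (R.map S.gx).prod

/-- a coset representative -/
def W (S : Sys C D) (l : ℕ) : C := S.pr (D.wordList.getD l [])

/-- an element from its code -/
def evc (S : Sys C D) (x : ℕ) : C := S.ev (x % 128) * S.W (x / 128)

variable (S : Sys C D)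

theorem ev_zero : S.ev 0 = 1 := by
  have h := S.hmul 0 0 (by norm_num) (by norm_num)
  rw [qm_self_idem] at h
  exact mul_eq_left.1 h

theorem ev_inv (h : D.OK) {a : ℕ} (ha : a < 128) : (S.ev a)⁻¹ = S.ev (qi a) := by
  refine inv_eq_of_mul_eq_one_left ?_
  rw [S.hmul _ _ (qi_lt a) ha, (Dat.q_facts h ha).1, S.ev_zero]

theorem pr_cons (x : Bool) (R : List Bool) : S.pr (x :: R) = S.gx x * S.pr R := by simp [pr]

theorem pr_append (R R' : List Bool) : S.pr (R ++ R') = S.pr R * S.pr R' := by simp [pr]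

theorem act_gen (h : D.OK) (x : Bool) {q : ℕ} (hq : q < 128) :
    S.gx x * S.ev q * (S.gx x)⁻¹ = S.ev (D.im x q) := by
  have key : ∀ i, i ≤ 7 → D.imN x i q < 128 ∧ S.gx x * S.ev (q % 2 ^ i) * (S.gx x)⁻¹ = S.ev (D.imN x i q) := by
    intro i
    induction i with
    | zero =>
      intro _
      refine ⟨by simp [Dat.imN], ?_⟩
      rw [Nat.pow_zero, Nat.mod_one, S.ev_zero, mul_one, mul_inv_cancel, Dat.imN, S.ev_zero]
    | succ i ih =>
      intro hi
      obtain ⟨h1, h2⟩ := ih (by omega)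
      by_cases hb : q / 2 ^ i % 2 = 1
      · rw [Dat.imN, if_pos hb]
        refine ⟨qm_lt _ _, ?_⟩
        have hp : 2 ^ i < 128 := by
          calc 2 ^ i < 2 ^ 7 := Nat.pow_lt_pow_right (by norm_num) (by omega)
            _ = 128 := by norm_num
        have hlt : q % 2 ^ i < 128 := (Nat.mod_lt _ (by positivity)).trans hp
        have hi7 : D.imgOf x i < 128 := ((Dat.q_facts h (show i < 128 by omega)).2.2.2.1 x).2.2 (by omega)
        rw [low_ok q hq i (by omega) hb, ← S.hmul _ _ hlt hp,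
          show S.gx x * (S.ev (q % 2 ^ i) * S.ev (2 ^ i)) * (S.gx x)⁻¹ =
            (S.gx x * S.ev (q % 2 ^ i) * (S.gx x)⁻¹) * (S.gx x * S.ev (2 ^ i) * (S.gx x)⁻¹) by group,
          h2, S.conj x i (by omega)]
        exact S.hmul _ _ h1 hi7
      · rw [Dat.imN, if_neg hb]
        refine ⟨h1, ?_⟩
        have : q % 2 ^ (i + 1) = q % 2 ^ i := by
          rw [Nat.mod_pow_succ, show q / 2 ^ i % 2 = 0 by omega, mul_zero, add_zero]
        rw [this, h2]
  obtain ⟨-, h7⟩ := key 7 le_rfl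
  rw [show q % 2 ^ 7 = q from Nat.mod_eq_of_lt (by simpa using hq)] at h7
  rw [h7, ((Dat.q_facts h hq).2.2.2.1 x).1]

theorem act_word (h : D.OK) : ∀ (R : List Bool) {q : ℕ}, q < 128 →
    S.pr R * S.ev q * (S.pr R)⁻¹ = S.ev (D.imw R q)
  | [], q, _ => by simp [pr, Dat.imw]
  | x :: R, q, hq => by
    rw [S.pr_cons, show S.gx x * S.pr R * S.ev q * (S.gx x * S.pr R)⁻¹ =
      S.gx x * (S.pr R * S.ev q * (S.pr R)⁻¹) * (S.gx x)⁻¹ by group, act_word h R hq,
      S.act_gen h x (Dat.imw_lt h R hq), Dat.imw]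

theorem W_zero (h : D.OK) : S.W 0 = 1 := by rw [W, (Dat.tree_facts h).2.1]; rfl

theorem phi_act (h : D.OK) : ∀ l, l < 168 → ∀ q, q < 128 → S.W l * S.ev q * (S.W l)⁻¹ = S.ev (D.phiOf l q) := by
  intro l
  induction l using Nat.strong_induction_on with
  | _ l ih =>
    intro hl q hq
    rcases l with _ | k
    · rw [S.W_zero h, one_mul, inv_one, mul_one, (Dat.tree_facts h).2.2.1 q hq]
    · obtain ⟨hp, -, -, hw, hphi⟩ := (Dat.tree_facts h).2.2.2 k (by omega)
      set px := D.tree.getD k (0, false)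
      have hWk : S.W (k + 1) = S.W px.1 * S.gx px.2 := by
        rw [W, hw, pr_append, W]; simp [pr]
      rw [hWk, show S.W px.1 * S.gx px.2 * S.ev q * (S.W px.1 * S.gx px.2)⁻¹ =
        S.W px.1 * (S.gx px.2 * S.ev q * (S.gx px.2)⁻¹) * (S.W px.1)⁻¹ by group, S.act_gen h px.2 hq,
        ih px.1 (by omega) (by omega) _ (((Dat.q_facts h hq).2.2.2.1 px.2).2.1), hphi q hq]

theorem W_comm (h : D.OK) {l q : ℕ} (hl : l < 168) (hq : q < 128) :
    S.W l * S.ev q = S.ev (D.phiOf l q) * S.W l := by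
  rw [← S.phi_act h l hl q hq, inv_mul_cancel_right]

/-- an edge with its label -/
def Edge (l : ℕ) (x : Bool) : Prop := S.W l * S.gx x = S.ev (D.labOf l x) * S.W (D.nxt l x)

theorem chain_spec (h : D.OK) (K : ℕ)
    (hK : ∀ l x, l < 168 → K.testBit (2 * l + Dat.bn x) = true → S.Edge l x) :
    ∀ (R : List Bool) {l : ℕ}, l < 168 → D.known K l R = true →
      (D.chain l R).1 < 128 ∧ (D.chain l R).2 < 168 ∧
        S.W l * S.pr R = S.ev (D.chain l R).1 * S.W (D.chain l R).2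
  | [], l, hl, _ => by
    refine ⟨by simp [Dat.chain], hl, ?_⟩
    simp [Dat.chain, pr, S.ev_zero]
  | x :: R, l, hl, hk => by
    simp only [Dat.known, Bool.and_eq_true, beq_iff_eq] at hk
    obtain ⟨h1, h2⟩ := hk
    obtain ⟨hn, hlab⟩ := Dat.range_nxt h hl x
    obtain ⟨c1, c2, c3⟩ := chain_spec h K hK R hn h2
    refine ⟨qm_lt _ _, c2, ?_⟩
    have he : S.W l * S.gx x = S.ev (D.labOf l x) * S.W (D.nxt l x) :=
      hK l x hl ((div_mod_iff _ _).1 h1)
    rw [S.pr_cons, ← mul_assoc, he, mul_assoc, c3, ← mul_assoc, S.hmul _ _ hlab c1, Dat.chain]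

theorem step_sound (h : D.OK) (K : ℕ)
    (hK : ∀ l x, l < 168 → K.testBit (2 * l + Dat.bn x) = true → S.Edge l x)
    (s : ℕ × ℕ × ℕ) (hs : D.stepOK K s = true) (hr : s.1 < D.rels.length) :
    ∀ l x, l < 168 → 2 * l + Dat.bn x = D.stepEdge s → S.Edge l x := by
  intro l' x' _ he
  simp only [Dat.stepOK, Bool.and_eq_true, decide_eq_true_eq, beq_iff_eq] at hs
  obtain ⟨⟨⟨⟨⟨hl, hi⟩, hkp⟩, hks⟩, hend⟩, hlab⟩ := hs
  set r := D.rels.getD s.1 ([], 0) with hrdef
  set pre := r.1.take s.2.2 with hpre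
  set x := r.1.getD s.2.2 false with hx
  set suf := r.1.drop (s.2.2 + 1) with hsuf
  obtain ⟨rfl, rfl⟩ : l' = (D.chain s.2.1 pre).2 ∧ x' = x := edge_index he
  obtain ⟨p1, p2, p3⟩ := S.chain_spec h K hK pre hl hkp
  obtain ⟨hn, -⟩ := Dat.range_nxt h p2 x
  obtain ⟨s1, -, s3⟩ := S.chain_spec h K hK suf hn hks
  rw [hend] at s3
  have hmem : r ∈ D.rels := by
    rw [hrdef, List.getD_eq_getElem _ _ hr]; exact List.getElem_mem hr
  have hv : r.2 < 128 := Dat.rels_lt h hmem
  have hsplit : r.1 = pre ++ x :: suf := by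
    rw [hpre, hx, hsuf, List.getD_eq_getElem _ _ hi, List.getElem_cons_drop hi, List.take_append_drop]
  have hR : S.W s.2.1 * S.pr r.1 = S.ev (D.phiOf s.2.1 r.2) * S.W s.2.1 := by
    rw [pr, S.rel r hmem, S.W_comm h hl hv]
  rw [hsplit, S.pr_append, S.pr_cons] at hR
  have hphi : D.phiOf s.2.1 r.2 < 128 := Dat.range_phi h hl hv
  unfold Edge
  rw [hlab, ← S.hmul _ _ (qm_lt _ _) (qi_lt _), ← S.hmul _ _ (qi_lt _) hphi, ← S.ev_inv h p1, ← S.ev_inv h s1]
  set m := D.nxt (D.chain s.2.1 pre).2 x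
  set P := (D.chain s.2.1 pre).1
  set T := (D.chain m suf).1
  calc S.W (D.chain s.2.1 pre).2 * S.gx x
      = (S.ev P)⁻¹ * (S.ev P * S.W (D.chain s.2.1 pre).2) * (S.gx x * S.pr suf) * (S.pr suf)⁻¹ := by group
    _ = (S.ev P)⁻¹ * (S.W s.2.1 * (S.pr pre * (S.gx x * S.pr suf))) * (S.pr suf)⁻¹ := by rw [← p3]; group
    _ = (S.ev P)⁻¹ * S.ev (D.phiOf s.2.1 r.2) * (S.ev T)⁻¹ * ((S.ev T * S.W s.2.1) * (S.pr suf)⁻¹) := by
      rw [hR]; group
    _ = (S.ev P)⁻¹ * S.ev (D.phiOf s.2.1 r.2) * (S.ev T)⁻¹ * S.W m := by rw [← s3, mul_inv_cancel_right]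

theorem tree_edges (h : D.OK) : ∀ l x, l < 168 → D.treeMask.testBit (2 * l + Dat.bn x) = true → S.Edge l x := by
  intro l x _ hb
  rw [Dat.treeMask] at hb
  rcases foldl_or_bit _ _ _ hb with h0 | ⟨b, hb', hbit⟩
  · simp at h0
  obtain ⟨px, hpx, rfl⟩ := List.mem_map.1 hb'
  rw [Nat.testBit_two_pow, decide_eq_true_eq] at hbit
  obtain ⟨rfl, rfl⟩ := edge_index hbit.symm
  obtain ⟨k, hk, e⟩ := Dat.tree_mem h hpx
  obtain ⟨-, hn, hlab, hw, -⟩ := (Dat.tree_facts h).2.2.2 k hk
  rw [e] at hn hlab hw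
  unfold Edge
  rw [hn, hlab, S.ev_zero, one_mul, W, W, hw, pr_append]
  simp [pr]

theorem run_sound (h : D.OK) : ∀ (L : List (ℕ × ℕ × ℕ)) (K : ℕ),
    (∀ l x, l < 168 → K.testBit (2 * l + Dat.bn x) = true → S.Edge l x) → D.stepsRun L K = true →
      ∀ l x, l < 168 → S.Edge l x
  | [], K, hK, hr => by
    intro l x hl
    simp only [Dat.stepsRun, beq_iff_eq] at hr
    refine hK l x hl ?_
    rw [hr, Nat.testBit_two_pow_sub_one, decide_eq_true_eq]
    have := bn_cases x
    omega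
  | s :: rest, K, hK, hr => by
    simp only [Dat.stepsRun, Bool.and_eq_true, decide_eq_true_eq] at hr
    obtain ⟨⟨h1, h2⟩, h3⟩ := hr
    refine run_sound h rest _ (fun l x hl hb => ?_) h3
    rw [Nat.testBit_or, Bool.or_eq_true] at hb
    rcases hb with hb | hb
    · exact hK l x hl hb
    · rw [Nat.testBit_two_pow, decide_eq_true_eq] at hb
      exact S.step_sound h K hK s h1 h2 l x hl hb.symm

theorem edge_all (h : D.OK) (l : ℕ) (x : Bool) (hl : l < 168) : S.Edge l x :=
  S.run_sound h D.steps D.treeMask (S.tree_edges h) h.steps l x hl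

omit [Group C] in
theorem known_full : ∀ (R : List Bool) (l : ℕ), l < 168 → D.OK → D.known (2 ^ 336 - 1) l R = true
  | [], _, _, _ => rfl
  | x :: R, l, hl, h => by
    simp only [Dat.known, Bool.and_eq_true, beq_iff_eq]
    refine ⟨(div_mod_iff _ _).2 ?_, known_full R _ (Dat.range_nxt h hl x).1 h⟩
    rw [Nat.testBit_two_pow_sub_one, decide_eq_true_eq]
    have := bn_cases x
    omega

theorem f_facts (h : D.OK) {l k : ℕ} (hl : l < 168) (hk : k < 168) :
    D.fOf l k < 128 ∧ D.lm l k < 168 ∧ S.W l * S.W k = S.ev (D.fOf l k) * S.W (D.lm l k) := by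
  have hf := h.f
  simp only [Dat.okF, List.all_eq_true, Bool.and_eq_true, decide_eq_true_eq, beq_iff_eq, List.mem_range] at hf
  obtain ⟨⟨e1, e2⟩, -⟩ := hf l hl k hk
  rw [e1, e2]
  exact S.chain_spec h (2 ^ 336 - 1) (fun l x hl _ => S.edge_all h l x hl) _ hl (known_full _ l hl h)

include S in
theorem mulC_lt (h : D.OK) {a b : ℕ} (ha : a < 21504) (hb : b < 21504) : D.mulC a b < 21504 := by
  obtain ⟨-, h2, -⟩ := S.f_facts h (show a / 128 < 168 by omega) (show b / 128 < 168 by omega)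
  unfold Dat.mulC
  have := qm_lt (qm (a % 128) (D.phiOf (a / 128) (b % 128))) (D.fOf (a / 128) (b / 128))
  omega

theorem mul_evc (h : D.OK) {a b : ℕ} (ha : a < 21504) (hb : b < 21504) :
    S.evc a * S.evc b = S.evc (D.mulC a b) := by
  have hla : a / 128 < 168 := by omega
  have hlb : b / 128 < 168 := by omega
  obtain ⟨f1, -, f3⟩ := S.f_facts h hla hlb
  have hp : D.phiOf (a / 128) (b % 128) < 128 := Dat.range_phi h hla (Nat.mod_lt _ (by norm_num))
  have hq := qm_lt (qm (a % 128) (D.phiOf (a / 128) (b % 128))) (D.fOf (a / 128) (b / 128))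
  have hmod : D.mulC a b % 128 = qm (qm (a % 128) (D.phiOf (a / 128) (b % 128))) (D.fOf (a / 128) (b / 128)) := by
    unfold Dat.mulC; omega
  have hdiv : D.mulC a b / 128 = D.lm (a / 128) (b / 128) := by unfold Dat.mulC; omega
  unfold evc
  rw [hmod, hdiv, show S.ev (a % 128) * S.W (a / 128) * (S.ev (b % 128) * S.W (b / 128)) =
    S.ev (a % 128) * (S.W (a / 128) * S.ev (b % 128)) * S.W (b / 128) by group,
    S.W_comm h hla (Nat.mod_lt _ (by norm_num)), ← mul_assoc, S.hmul _ _ (Nat.mod_lt _ (by norm_num)) hp,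
    mul_assoc, f3, ← mul_assoc, S.hmul _ _ (qm_lt _ _) f1]

theorem evc_inj (h : D.OK) {a b : ℕ} (ha : a < 21504) (hb : b < 21504) (e : S.evc a = S.evc b) : a = b := by
  have hla : a / 128 < 168 := by omega
  have hlb : b / 128 < 168 := by omega
  have hqa : a % 128 < 128 := Nat.mod_lt _ (by norm_num)
  have hqb : b % 128 < 128 := Nat.mod_lt _ (by norm_num)
  unfold evc at e
  have hW : S.W (a / 128) = S.ev (qm (qi (a % 128)) (b % 128)) * S.W (b / 128) := by
    rw [← S.hmul _ _ (qi_lt _) hqb, ← S.ev_inv h hqa, mul_assoc, ← e, inv_mul_cancel_left]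
  have hsig : ∀ q < 128, D.phiOf (a / 128) q % 64 = D.phiOf (b / 128) q % 64 := by
    intro q hq
    set c := qm (qi (a % 128)) (b % 128) with hc
    have hc' : c < 128 := qm_lt _ _
    have hp := Dat.range_phi h hlb hq
    have e1 : S.ev (D.phiOf (a / 128) q) = S.ev (qm (qm c (D.phiOf (b / 128) q)) (qi c)) := by
      rw [← S.phi_act h _ hla q hq, hW, ← S.hmul _ _ (qm_lt _ _) (qi_lt _), ← S.hmul _ _ hc' hp,
        ← S.ev_inv h hc', ← S.phi_act h _ hlb q hq]
      group
    rw [S.inj _ _ (Dat.range_phi h hla hq) (qm_lt _ _) e1, qm_mod, qm_mod, qi_mod]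
    rw [Nat.xor_comm (c % 64), Nat.xor_assoc, Nat.xor_self, Nat.xor_zero]
  have hl : a / 128 = b / 128 := by
    have hsg : D.sig (a / 128) = D.sig (b / 128) := by
      unfold Dat.sig
      rw [List.map_congr_left fun i hi => hsig (2 ^ i) ?_]
      rw [List.mem_range] at hi
      calc 2 ^ i < 2 ^ 7 := Nat.pow_lt_pow_right (by norm_num) (by omega)
        _ = 128 := by norm_num
    have hn := h.sig
    simp only [Dat.okSig, decide_eq_true_eq] at hn
    exact List.inj_on_of_nodup_map hn (List.mem_range.2 hla) (List.mem_range.2 hlb) hsg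
  rw [hl] at e
  have hq := S.inj _ _ hqa hqb (mul_right_cancel e)
  omega

theorem evc_bij (h : D.OK) (hC : Nat.card C = 21504) :
    Function.Bijective (fun x : Fin 21504 => S.evc x) := by
  haveI : Finite C := Nat.finite_of_card_ne_zero (by rw [hC]; norm_num)
  refine (Nat.bijective_iff_injective_and_card _).2 ⟨fun x y e => Fin.ext (S.evc_inj h x.2 y.2 e), ?_⟩
  rw [Nat.card_fin, hC]

include S in
theorem iso (h : D.OK) {C' : Type*} [Group C'] (S' : Sys C' D) (hC : Nat.card C = 21504)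
    (hC' : Nat.card C' = 21504) : Nonempty (C ≃* C') := by
  set e := Equiv.ofBijective _ (S.evc_bij h hC)
  set e' := Equiv.ofBijective _ (S'.evc_bij h hC')
  refine ⟨MulEquiv.mk' (e.symm.trans e') fun u v => ?_⟩
  obtain ⟨a, rfl⟩ := e.surjective u
  obtain ⟨b, rfl⟩ := e.surjective v
  have hab : e a * e b = e ⟨D.mulC a b, S.mulC_lt h a.2 b.2⟩ := S.mul_evc h a.2 b.2
  rw [hab]
  simp only [Equiv.trans_apply, Equiv.symm_apply_apply]
  exact (S'.mul_evc h a.2 b.2).symm

end Sys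

end Cfsg.Agent.Spor.HeldCent
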