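import Mathlib
import Cfsg.Prelude.Def_Transfer

/-!
An extraspecial normal subgroup of order 128 containing its centraliser: the commutation form, and the facts on
an element of order seven acting on it.
-/

set_option autoImplicit false

namespace Cfsg.Agent.Spor.HeldCent

universe u

/-- The hypotheses on the group. -/
structure Ctx (C : Type u) [Group C] where
  Q : Subgroup C
  t : C
  normal : Q.Normal
  card : Nat.card Q = 128
  t_mem : t ∈ Q
  t_sq : t * t = 1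
  t_ne : t ≠ 1
  t_central : ∀ x, x * t = t * x
  comm_cases : ∀ u ∈ Q, ∀ v ∈ Q, u * v = v * u ∨ u * v = t * (v * u)
  radical : ∀ u ∈ Q, (∀ v ∈ Q, u * v = v * u) → u = 1 ∨ u = t
  sq_cases : ∀ u ∈ Q, u * u = 1 ∨ u * u = t
  self_cent : ∀ g, (∀ u ∈ Q, g * u = u * g) → g ∈ Q

theorem ctx_of_extraspecial {C : Type u} [Group C] [Finite C] (Q : Subgroup C) [hn : Q.Normal] (t : C)
    (ht : orderOf t = 2) (hct : ∀ x, x * t = t * x) (hQ : Cfsg.IsExtraspecial 2 Q) (hcard : Nat.card Q = 2 ^ 7)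
    (h2c : Subgroup.centralizer (Q : Set C) ≤ Q) : ∃ K : Ctx C, K.Q = Q ∧ K.t = t := by
  have htQ : t ∈ Q := h2c (Subgroup.mem_centralizer_iff.2 fun x _ => hct x)
  have ht2 : t * t = 1 := by rw [← pow_two, ← ht, pow_orderOf_eq_one]
  have ht1 : t ≠ 1 := fun e => by rw [e, orderOf_one] at ht; norm_num at ht
  obtain ⟨⟨-, -, hcom⟩, hc2⟩ := hQ
  have hZ : ∀ z : Q, z ∈ Subgroup.center Q ↔ (z : C) = 1 ∨ (z : C) = t := by
    have hsub : ({1, ⟨t, htQ⟩} : Set Q) ⊆ (Subgroup.center Q : Set Q) := by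
      rintro z (rfl | rfl)
      · exact one_mem _
      · exact Subgroup.mem_center_iff.2 fun g => Subtype.ext (hct g)
    have hne : (1 : Q) ≠ ⟨t, htQ⟩ := fun e => ht1 (congrArg Subtype.val e).symm
    have heq : ({1, ⟨t, htQ⟩} : Set Q) = (Subgroup.center Q : Set Q) :=
      Set.eq_of_subset_of_ncard_le hsub (by
        rw [Set.ncard_pair hne, ← Nat.card_coe_set_eq, SetLike.coe_sort_coe, hc2])
    intro z
    rw [← SetLike.mem_coe, ← heq]
    simp only [Set.mem_insert_iff, Set.mem_singleton_iff, Subtype.ext_iff, OneMemClass.coe_one]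
  have hcc : ∀ u ∈ Q, ∀ v ∈ Q, u * v = v * u ∨ u * v = t * (v * u) := by
    intro u hu v hv
    have hm : (⟨u, hu⟩ : Q) * ⟨v, hv⟩ * (⟨u, hu⟩ : Q)⁻¹ * (⟨v, hv⟩ : Q)⁻¹ ∈ Subgroup.center Q := by
      rw [← hcom, commutator_def]
      exact Subgroup.commutator_mem_commutator (Subgroup.mem_top _) (Subgroup.mem_top _)
    have h := (hZ _).1 hm
    simp only [Subgroup.coe_mul, InvMemClass.coe_inv] at h
    rcases h with h | h
    · exact Or.inl (by rw [← mul_inv_eq_one, mul_inv_rev, ← mul_assoc]; exact h)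
    · exact Or.inr (by rw [← h]; group)
  have hrad : ∀ u ∈ Q, (∀ v ∈ Q, u * v = v * u) → u = 1 ∨ u = t := by
    intro u hu h
    exact (hZ ⟨u, hu⟩).1 (Subgroup.mem_center_iff.2 fun g => Subtype.ext (h g g.2).symm)
  refine ⟨⟨Q, t, hn, by rw [hcard]; norm_num, htQ, ht2, ht1, hct, hcc, hrad, fun u hu => ?_, fun g hg => ?_⟩, rfl, rfl⟩
  · refine hrad _ (mul_mem hu hu) fun v hv => ?_
    rcases hcc u hu v hv with h | h
    · rw [mul_assoc, h, ← mul_assoc, h, mul_assoc]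
    · calc u * u * v = u * (u * v) := mul_assoc _ _ _
        _ = u * (t * (v * u)) := by rw [h]
        _ = t * (u * v) * u := by rw [← mul_assoc u t, hct u]; group
        _ = t * t * (v * (u * u)) := by rw [h]; group
        _ = v * (u * u) := by rw [ht2, one_mul]
  · exact h2c (Subgroup.mem_centralizer_iff.2 fun u hu => (hg u hu).symm)

theorem zmod_two_cases (b : ZMod 2) : b = 0 ∨ b = 1 := by
  revert b; decide

namespace Ctx

variable {C : Type u} [Group C] (K : Ctx C)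

/-- a power of the central involution -/
def tp (b : ZMod 2) : C := K.t ^ b.val

@[simp] theorem tp_zero : K.tp 0 = 1 := by simp [tp]

@[simp] theorem tp_one : K.tp 1 = K.t := by simp [tp, ZMod.val_one]

theorem tp_mem (b : ZMod 2) : K.tp b ∈ K.Q := pow_mem K.t_mem _

theorem tp_comm (b : ZMod 2) (x : C) : x * K.tp b = K.tp b * x :=
  ((show Commute x K.t from K.t_central x).pow_right _)

theorem tp_add (a b : ZMod 2) : K.tp (a + b) = K.tp a * K.tp b := by
  rcases zmod_two_cases a with rfl | rfl <;> rcases zmod_two_cases b with rfl | rfl <;>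
    simp [K.t_sq, show (1 : ZMod 2) + 1 = 0 from rfl]

theorem tp_inj {a b : ZMod 2} (h : K.tp a = K.tp b) : a = b := by
  rcases zmod_two_cases a with rfl | rfl <;> rcases zmod_two_cases b with rfl | rfl <;> simp at h ⊢
  exacts [K.t_ne h.symm, K.t_ne h]

theorem tp_conj (g : C) (b : ZMod 2) : g * K.tp b * g⁻¹ = K.tp b := by
  rw [K.tp_comm, mul_inv_cancel_right]

theorem conj_mem (g : C) {u : C} (hu : u ∈ K.Q) : g * u * g⁻¹ ∈ K.Q := K.normal.conj_mem u hu g

open Classical in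
/-- the commutation bit -/
noncomputable def bet (_ : Ctx C) (u v : C) : ZMod 2 := if u * v = v * u then 0 else 1

theorem bet_spec {u v : C} (hu : u ∈ K.Q) (hv : v ∈ K.Q) : u * v = K.tp (K.bet u v) * (v * u) := by
  unfold bet
  split_ifs with h
  · simpa using h
  · simpa using (K.comm_cases u hu v hv).resolve_left h

theorem bet_eq {u v : C} {b : ZMod 2} (hu : u ∈ K.Q) (hv : v ∈ K.Q) (h : u * v = K.tp b * (v * u)) :
    K.bet u v = b :=
  K.tp_inj (mul_right_cancel ((K.bet_spec hu hv).symm.trans h))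

theorem bet_mul_left {u u' v : C} (hu : u ∈ K.Q) (hu' : u' ∈ K.Q) (hv : v ∈ K.Q) :
    K.bet (u * u') v = K.bet u v + K.bet u' v := by
  refine K.bet_eq (mul_mem hu hu') hv ?_
  calc u * u' * v = u * (K.tp (K.bet u' v) * (v * u')) := by rw [mul_assoc, K.bet_spec hu' hv]
    _ = K.tp (K.bet u' v) * (u * v) * u' := by rw [← mul_assoc u, K.tp_comm]; group
    _ = K.tp (K.bet u' v) * (K.tp (K.bet u v) * (v * u)) * u' := by rw [K.bet_spec hu hv]
    _ = K.tp (K.bet u v + K.bet u' v) * (v * (u * u')) := by rw [add_comm, K.tp_add]; group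

theorem bet_symm {u v : C} (hu : u ∈ K.Q) (hv : v ∈ K.Q) : K.bet v u = K.bet u v := by
  refine K.bet_eq hv hu ?_
  rw [K.bet_spec hu hv, ← mul_assoc, ← K.tp_add,
    show K.bet u v + K.bet u v = 0 by rcases zmod_two_cases (K.bet u v) with h | h <;> rw [h] <;> rfl,
    tp_zero, one_mul]

theorem bet_mul_right {u v v' : C} (hu : u ∈ K.Q) (hv : v ∈ K.Q) (hv' : v' ∈ K.Q) :
    K.bet u (v * v') = K.bet u v + K.bet u v' := by
  rw [K.bet_symm (mul_mem hv hv') hu, K.bet_mul_left hv hv' hu, K.bet_symm hu hv, K.bet_symm hu hv']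

theorem bet_self {u : C} (hu : u ∈ K.Q) : K.bet u u = 0 := K.bet_eq hu hu (by simp)

theorem bet_tp {v : C} (hv : v ∈ K.Q) (b : ZMod 2) : K.bet (K.tp b) v = 0 :=
  K.bet_eq (K.tp_mem b) hv (by rw [tp_zero, one_mul, K.tp_comm])

theorem bet_one {v : C} (hv : v ∈ K.Q) : K.bet 1 v = 0 := K.bet_eq (one_mem _) hv (by simp)

theorem bet_conj (g : C) {u v : C} (hu : u ∈ K.Q) (hv : v ∈ K.Q) :
    K.bet (g * u * g⁻¹) (g * v * g⁻¹) = K.bet u v := by
  refine K.bet_eq (K.conj_mem g hu) (K.conj_mem g hv) ?_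
  calc g * u * g⁻¹ * (g * v * g⁻¹) = g * (u * v) * g⁻¹ := by group
    _ = g * (K.tp (K.bet u v) * (v * u)) * g⁻¹ := by rw [K.bet_spec hu hv]
    _ = K.tp (K.bet u v) * (g * v * g⁻¹ * (g * u * g⁻¹)) := by rw [← mul_assoc g, K.tp_comm]; group

theorem exists_tp {u : C} (hu : u ∈ K.Q) (h : ∀ v ∈ K.Q, K.bet u v = 0) : ∃ b, u = K.tp b := by
  rcases K.radical u hu fun v hv => by simpa [h v hv] using K.bet_spec hu hv with h1 | h1
  exacts [⟨0, by simpa using h1⟩, ⟨1, by simpa using h1⟩]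

/-- the conjugate by a power -/
def Yk (y : C) (k : ℕ) (u : C) : C := y ^ k * u * (y ^ k)⁻¹

variable {y : C} (hy : y ^ 7 = 1)

theorem Yk_mem (k : ℕ) {u : C} (hu : u ∈ K.Q) : Yk y k u ∈ K.Q := K.conj_mem _ hu

theorem Yk_mul (k : ℕ) (u v : C) : Yk y k (u * v) = Yk y k u * Yk y k v := by unfold Yk; group

theorem Yk_Yk (i j : ℕ) (u : C) : Yk y i (Yk y j u) = Yk y (i + j) u := by unfold Yk; rw [pow_add]; group

theorem Yk_zero (u : C) : Yk y 0 u = u := by simp [Yk]

include hy in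
theorem Yk_seven (k : ℕ) (u : C) : Yk y (k + 7) u = Yk y k u := by rw [Yk, Yk, pow_add, hy, mul_one]

theorem Yk_tp (k : ℕ) (b : ZMod 2) : Yk y k (K.tp b) = K.tp b := K.tp_conj _ b

include hy in
theorem bet_shift {i j : ℕ} (h : i + j = 7) {u v : C} (hu : u ∈ K.Q) (hv : v ∈ K.Q) :
    K.bet (Yk y i u) v = K.bet u (Yk y j v) := by
  rw [← K.bet_conj (y ^ j) (K.Yk_mem i hu) hv]
  show K.bet (Yk y j (Yk y i u)) (Yk y j v) = _
  rw [Yk_Yk, show j + i = 0 + 7 by omega, Yk_seven hy, Yk_zero]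

/-- an element fixed by the element of order seven -/
def Fixed (y u : C) : Prop := u ∈ K.Q ∧ Commute y u

theorem Yk_fixed {u : C} (h : K.Fixed y u) (k : ℕ) : Yk y k u = u := by
  rw [Yk, (h.2.pow_left k).eq, mul_inv_cancel_right]

/-- product of the seven conjugates -/
def norm (y u : C) : C :=
  Yk y 6 u * Yk y 5 u * Yk y 4 u * Yk y 3 u * Yk y 2 u * Yk y 1 u * Yk y 0 u

theorem norm_mem {u : C} (hu : u ∈ K.Q) : norm y u ∈ K.Q := by
  have m := fun k => K.Yk_mem (y := y) k hu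
  exact mul_mem (mul_mem (mul_mem (mul_mem (mul_mem (mul_mem (m 6) (m 5)) (m 4)) (m 3)) (m 2)) (m 1)) (m 0)

theorem bet_mul7 {a b c d e f g v : C} (ha : a ∈ K.Q) (hb : b ∈ K.Q) (hc : c ∈ K.Q) (hd : d ∈ K.Q) (he : e ∈ K.Q)
    (hf : f ∈ K.Q) (hg : g ∈ K.Q) (hv : v ∈ K.Q) :
    K.bet (a * b * c * d * e * f * g) v =
      K.bet a v + K.bet b v + K.bet c v + K.bet d v + K.bet e v + K.bet f v + K.bet g v := by
  have h2 := mul_mem ha hb
  have h3 := mul_mem h2 hc
  have h4 := mul_mem h3 hd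
  have h5 := mul_mem h4 he
  have h6 := mul_mem h5 hf
  rw [K.bet_mul_left h6 hg hv, K.bet_mul_left h5 hf hv, K.bet_mul_left h4 he hv, K.bet_mul_left h3 hd hv,
    K.bet_mul_left h2 hc hv, K.bet_mul_left ha hb hv]

theorem bet_norm {u v : C} (hu : u ∈ K.Q) (hv : v ∈ K.Q) :
    K.bet (norm y u) v = K.bet (Yk y 6 u) v + K.bet (Yk y 5 u) v + K.bet (Yk y 4 u) v + K.bet (Yk y 3 u) v +
      K.bet (Yk y 2 u) v + K.bet (Yk y 1 u) v + K.bet (Yk y 0 u) v := by
  have m := fun k => K.Yk_mem (y := y) k hu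
  exact K.bet_mul7 (m 6) (m 5) (m 4) (m 3) (m 2) (m 1) (m 0) hv

include hy in
theorem norm_fixed {u : C} (hu : u ∈ K.Q) : K.Fixed y (norm y u) := by
  have m := fun k => K.Yk_mem (y := y) k hu
  have hN := K.norm_mem (y := y) hu
  have h1 : ∀ v ∈ K.Q, K.bet (Yk y 1 (norm y u) * norm y u) v = 0 := by
    intro v hv
    rw [K.bet_mul_left (K.Yk_mem _ hN) hN hv, K.bet_norm hu hv]
    have e : Yk y 1 (norm y u) = Yk y 7 u * Yk y 6 u * Yk y 5 u * Yk y 4 u * Yk y 3 u * Yk y 2 u * Yk y 1 u := by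
      unfold norm; simp only [Yk_mul, Yk_Yk]
    rw [e, K.bet_mul7 (m 7) (m 6) (m 5) (m 4) (m 3) (m 2) (m 1) hv]
    rw [show (7 : ℕ) = 0 + 7 from rfl, Yk_seven hy]
    generalize K.bet (Yk y 6 u) v = a6, K.bet (Yk y 5 u) v = a5, K.bet (Yk y 4 u) v = a4,
      K.bet (Yk y 3 u) v = a3, K.bet (Yk y 2 u) v = a2, K.bet (Yk y 1 u) v = a1, K.bet (Yk y 0 u) v = a0
    rcases zmod_two_cases a0 with rfl | rfl <;> ring_nf <;> simp [show (2 : ZMod 2) = 0 from rfl]
  obtain ⟨b, hb⟩ := K.exists_tp (mul_mem (K.Yk_mem _ hN) hN) h1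
  obtain ⟨c, hc⟩ : ∃ c, Yk y 1 (norm y u) = K.tp c * norm y u := by
    rcases K.sq_cases _ hN with h | h
    · exact ⟨b, by rw [← hb, mul_assoc, h, mul_one]⟩
    · refine ⟨b + 1, ?_⟩
      rw [K.tp_add, ← hb, tp_one, mul_assoc (Yk y 1 (norm y u) * norm y u), ← K.t_central (norm y u), ← mul_assoc,
        mul_assoc _ (norm y u) (norm y u), h, mul_assoc, K.t_sq, mul_one]
  have hk : ∀ k : ℕ, Yk y k (norm y u) = K.tp ((k : ZMod 2) * c) * norm y u := by
    intro k
    induction k with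
    | zero => simp [Yk_zero]
    | succ k ih =>
      rw [← Yk_Yk k 1, hc, Yk_mul, K.Yk_tp, ih, ← mul_assoc, ← K.tp_add]
      push_cast
      ring_nf
  have h7 := hk 7
  rw [show (7 : ℕ) = 0 + 7 from rfl, Yk_seven hy, Yk_zero, show ((0 + 7 : ℕ) : ZMod 2) = 1 from rfl, one_mul] at h7
  obtain rfl : c = 0 := K.tp_inj (by rw [tp_zero]; exact (mul_eq_right.1 h7.symm))
  refine ⟨hN, ?_⟩
  rw [tp_zero, one_mul] at hc
  unfold Yk at hc
  rw [pow_one] at hc
  exact mul_inv_eq_iff_eq_mul.1 hc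

include hy in
theorem fixed_radical {r : C} (hr : K.Fixed y r) (h : ∀ w, K.Fixed y w → K.bet r w = 0) : ∃ b, r = K.tp b := by
  refine K.exists_tp hr.1 fun v hv => ?_
  have h0 := h _ (K.norm_fixed hy hv)
  have e : ∀ k, k ≤ 7 → K.bet r (Yk y k v) = K.bet r v := fun k _ => by
    conv_lhs => rw [← K.Yk_fixed hr k]
    exact K.bet_conj _ hr.1 hv
  rw [K.bet_symm (K.norm_mem hv) hr.1, K.bet_norm hv hr.1] at h0
  simp only [K.bet_symm hr.1 (K.Yk_mem _ hv), e _ (by norm_num : (6 : ℕ) ≤ 7), e _ (by norm_num : (5 : ℕ) ≤ 7),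
    e _ (by norm_num : (4 : ℕ) ≤ 7), e _ (by norm_num : (3 : ℕ) ≤ 7), e _ (by norm_num : (2 : ℕ) ≤ 7),
    e _ (by norm_num : (1 : ℕ) ≤ 7), e _ (by norm_num : (0 : ℕ) ≤ 7)] at h0
  rcases zmod_two_cases (K.bet r v) with h1 | h1
  · exact h1
  · rw [h1] at h0; exact absurd h0 (by decide)

/-- the fixed subgroup -/
def U (y : C) : Subgroup C := K.Q ⊓ Subgroup.centralizer {y}

theorem mem_U {u : C} : u ∈ K.U y ↔ K.Fixed y u := by
  rw [U, Subgroup.mem_inf, Subgroup.mem_centralizer_singleton_iff]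
  exact ⟨fun h => ⟨h.1, h.2.symm⟩, fun h => ⟨h.1, h.2.symm⟩⟩

include hy in
theorem card_U_mod [Finite C] (hy1 : y ≠ 1) : Nat.card (K.U y) % 7 = 128 % 7 := by
  haveI : Fact (Nat.Prime 7) := ⟨by norm_num⟩
  haveI := K.normal
  letI : MulAction (Subgroup.zpowers y) K.Q :=
    MulAction.compHom _ ((MulAut.conjNormal (H := K.Q)).comp (Subgroup.zpowers y).subtype)
  have hp : IsPGroup 7 (Subgroup.zpowers y) :=
    IsPGroup.of_card (n := 1) (by rw [Nat.card_zpowers, orderOf_eq_prime hy hy1, pow_one])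
  have hsmul : ∀ (g : Subgroup.zpowers y) (q : K.Q), ((g • q : K.Q) : C) = g.1 * q.1 * g.1⁻¹ :=
    fun g q => MulAut.conjNormal_apply g.1 q
  have e : MulAction.fixedPoints (Subgroup.zpowers y) K.Q ≃ K.U y :=
    { toFun := fun q => ⟨q.1.1, K.mem_U.2 ⟨q.1.2, by
        have h := congrArg Subtype.val (q.2 ⟨y, Subgroup.mem_zpowers y⟩)
        rw [hsmul] at h
        exact mul_inv_eq_iff_eq_mul.1 h⟩⟩
      invFun := fun u => ⟨⟨u.1, (K.mem_U.1 u.2).1⟩, fun g => Subtype.ext (by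
        obtain ⟨g, hg⟩ := g
        obtain ⟨k, rfl⟩ := hg
        rw [hsmul]
        exact mul_inv_eq_iff_eq_mul.2 ((K.mem_U.1 u.2).2.zpow_left k))⟩
      left_inv := fun q => rfl
      right_inv := fun u => rfl }
  have h : Nat.card K.Q % 7 = Nat.card (MulAction.fixedPoints (Subgroup.zpowers y) K.Q) % 7 :=
    hp.card_modEq_card_fixedPoints _
  rw [Nat.card_congr e, K.card] at h
  exact h.symm

open Classical in
/-- a conditional factor -/
noncomputable def pw (x : C) (i : ZMod 2) : C := if i = 1 then x else 1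

theorem pw_mem {H : Subgroup C} {x : C} (hx : x ∈ H) (i : ZMod 2) : pw x i ∈ H := by
  unfold pw; split_ifs
  exacts [hx, one_mem _]

theorem bet_pw {x w : C} (hx : x ∈ K.Q) (hw : w ∈ K.Q) (i : ZMod 2) : K.bet (pw x i) w = i * K.bet x w := by
  rcases zmod_two_cases i with rfl | rfl <;> simp [pw, K.bet_one hw]

include hy in
theorem fixed_eq_tp [Finite C] (hy1 : y ≠ 1) {u : C} (hu : K.Fixed y u) : ∃ b, u = K.tp b := by
  have : Fact (Nat.Prime 7) := ⟨by norm_num⟩
  have hle : K.U y ≤ K.Q := inf_le_left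
  obtain ⟨n, hn7, hn⟩ := (Nat.dvd_prime_pow Nat.prime_two).1
    (show Nat.card (K.U y) ∣ 2 ^ 7 by have := Subgroup.card_dvd_of_le hle; rwa [K.card] at this)
  have hmod := K.card_U_mod hy hy1
  rw [hn] at hmod
  have hn' : n = 1 ∨ n = 4 ∨ n = 7 := by interval_cases n <;> simp_all
  have hU128 : n ≠ 7 := by
    rintro rfl
    have heq : K.U y = K.Q := Subgroup.eq_of_le_of_card_ge hle (by rw [hn, K.card]; norm_num)
    have hyQ : y ∈ K.Q := K.self_cent y fun w hw => (K.mem_U.1 (heq ▸ hw)).2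
    have h7 : orderOf y = 7 := orderOf_eq_prime hy hy1
    have hd := Subgroup.orderOf_dvd_natCard K.Q hyQ
    rw [h7, K.card] at hd
    norm_num at hd
  have htU : ∀ b, K.Fixed y (K.tp b) := fun b => ⟨K.tp_mem b, K.tp_comm b y⟩
  have h16 : n ≠ 4 := by
    rintro rfl
    -- a nondegenerate pair
    obtain ⟨a, ha, ha'⟩ : ∃ a, K.Fixed y a ∧ ∀ b, a ≠ K.tp b := by
      by_contra hno
      push Not at hno
      have hsub : (K.U y : Set C) ⊆ {1, K.t} := by
        intro x hx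
        obtain ⟨b, hb⟩ := hno x (K.mem_U.1 hx)
        rcases zmod_two_cases b with rfl | rfl <;> simp [hb]
      have h1 := Set.ncard_le_ncard hsub
      have h2 : ({1, K.t} : Set C).ncard ≤ 2 := (Set.ncard_insert_le _ _).trans (by simp)
      rw [← Nat.card_coe_set_eq, SetLike.coe_sort_coe, hn] at h1
      omega
    obtain ⟨b, hb, hab⟩ : ∃ b, K.Fixed y b ∧ K.bet a b = 1 := by
      by_contra hno
      push Not at hno
      obtain ⟨c, hc⟩ := K.fixed_radical hy ha fun w hw =>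
        (zmod_two_cases _).resolve_right (hno w hw)
      exact ha' c hc
    have hba : K.bet b a = 1 := (K.bet_symm ha.1 hb.1).trans hab
    let F : ZMod 2 × ZMod 2 × ZMod 2 → C := fun p => pw a p.1 * pw b p.2.1 * K.tp p.2.2
    obtain ⟨x0, hx0, hx0F⟩ : ∃ x0, K.Fixed y x0 ∧ x0 ∉ Set.range F := by
      by_contra hno
      push Not at hno
      have h1 := Set.ncard_le_ncard (show (K.U y : Set C) ⊆ Set.range F from fun x hx => hno x (K.mem_U.1 hx))
      have h2 : (Set.range F).ncard ≤ 8 := by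
        rw [← Nat.card_coe_set_eq]
        exact (Finite.card_range_le F).trans (by simp)
      rw [← Nat.card_coe_set_eq, SetLike.coe_sort_coe, hn] at h1
      omega
    set k := x0 * (pw b (K.bet a x0) * pw a (K.bet b x0)) with hk
    have maQ : ∀ i, pw a i ∈ K.Q := pw_mem ha.1
    have mbQ : ∀ i, pw b i ∈ K.Q := pw_mem hb.1
    have hUm : ∀ {x}, K.Fixed y x → x ∈ K.U y := fun h => K.mem_U.2 h
    have hkU : K.Fixed y k :=
      K.mem_U.1 (mul_mem (hUm hx0) (mul_mem (pw_mem (hUm hb) _) (pw_mem (hUm ha) _)))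
    have hka : K.bet k a = 0 := by
      rw [hk, K.bet_mul_left hx0.1 (mul_mem (mbQ _) (maQ _)) ha.1, K.bet_mul_left (mbQ _) (maQ _) ha.1,
        K.bet_pw hb.1 ha.1, K.bet_pw ha.1 ha.1, hba, K.bet_self ha.1, mul_one, mul_zero, add_zero,
        K.bet_symm ha.1 hx0.1]
      rcases zmod_two_cases (K.bet a x0) with h | h <;> rw [h] <;> rfl
    have hkb : K.bet k b = 0 := by
      rw [hk, K.bet_mul_left hx0.1 (mul_mem (mbQ _) (maQ _)) hb.1, K.bet_mul_left (mbQ _) (maQ _) hb.1,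
        K.bet_pw hb.1 hb.1, K.bet_pw ha.1 hb.1, hab, K.bet_self hb.1, mul_one, mul_zero, zero_add,
        K.bet_symm hb.1 hx0.1]
      rcases zmod_two_cases (K.bet b x0) with h | h <;> rw [h] <;> rfl
    obtain ⟨c, hc, hkc⟩ : ∃ c, K.Fixed y c ∧ K.bet k c = 1 := by
      by_contra hno
      push Not at hno
      obtain ⟨z, hz⟩ := K.fixed_radical hy hkU fun w hw => (zmod_two_cases _).resolve_right (hno w hw)
      -- then the element would be in the range
      apply hx0F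
      have e : x0 = K.tp z * ((pw a (K.bet b x0))⁻¹ * (pw b (K.bet a x0))⁻¹) := by
        rw [← hz, hk]; group
      have hinv : ∀ x, K.Fixed y x → ∀ i, ∃ s, (pw x i)⁻¹ = pw x i * K.tp s := by
        intro x hx i
        rcases K.sq_cases _ (pw_mem hx.1 i) with h | h
        · exact ⟨0, by rw [tp_zero, mul_one]; exact inv_eq_of_mul_eq_one_left h⟩
        · exact ⟨1, by rw [tp_one]; exact inv_eq_of_mul_eq_one_right (by rw [← mul_assoc, h, K.t_sq])⟩
      obtain ⟨s1, hs1⟩ := hinv a ha (K.bet b x0)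
      obtain ⟨s2, hs2⟩ := hinv b hb (K.bet a x0)
      refine ⟨(K.bet b x0, K.bet a x0, z + s1 + s2), ?_⟩
      refine Eq.trans ?_ e.symm
      rw [hs1, hs2]
      show pw a (K.bet b x0) * pw b (K.bet a x0) * K.tp (z + s1 + s2) = _
      rw [K.tp_add, K.tp_add]
      calc pw a (K.bet b x0) * pw b (K.bet a x0) * (K.tp z * K.tp s1 * K.tp s2)
          = K.tp z * (pw a (K.bet b x0) * pw b (K.bet a x0) * (K.tp s1 * K.tp s2)) := by
            rw [mul_assoc (K.tp z), ← mul_assoc (pw a _ * pw b _), K.tp_comm z, mul_assoc]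
        _ = K.tp z * (pw a (K.bet b x0) * K.tp s1 * (pw b (K.bet a x0) * K.tp s2)) := by
            rw [show pw a (K.bet b x0) * pw b (K.bet a x0) * (K.tp s1 * K.tp s2) =
              pw a (K.bet b x0) * (pw b (K.bet a x0) * K.tp s1) * K.tp s2 by group, K.tp_comm s1 (pw b _)]
            group
    set c' := c * (pw b (K.bet a c) * pw a (K.bet b c)) with hc'
    have hcU : K.Fixed y c' :=
      K.mem_U.1 (mul_mem (hUm hc) (mul_mem (pw_mem (hUm hb) _) (pw_mem (hUm ha) _)))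
    have hca : K.bet c' a = 0 := by
      rw [hc', K.bet_mul_left hc.1 (mul_mem (mbQ _) (maQ _)) ha.1, K.bet_mul_left (mbQ _) (maQ _) ha.1,
        K.bet_pw hb.1 ha.1, K.bet_pw ha.1 ha.1, hba, K.bet_self ha.1, mul_one, mul_zero, add_zero,
        K.bet_symm ha.1 hc.1]
      rcases zmod_two_cases (K.bet a c) with h | h <;> rw [h] <;> rfl
    have hcb : K.bet c' b = 0 := by
      rw [hc', K.bet_mul_left hc.1 (mul_mem (mbQ _) (maQ _)) hb.1, K.bet_mul_left (mbQ _) (maQ _) hb.1,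
        K.bet_pw hb.1 hb.1, K.bet_pw ha.1 hb.1, hab, K.bet_self hb.1, mul_one, mul_zero, zero_add,
        K.bet_symm hb.1 hc.1]
      rcases zmod_two_cases (K.bet b c) with h | h <;> rw [h] <;> rfl
    have hck : K.bet c' k = 1 := by
      rw [hc', K.bet_mul_left hc.1 (mul_mem (mbQ _) (maQ _)) hkU.1, K.bet_mul_left (mbQ _) (maQ _) hkU.1,
        K.bet_pw hb.1 hkU.1, K.bet_pw ha.1 hkU.1, K.bet_symm hkU.1 hb.1, hkb, K.bet_symm hkU.1 ha.1, hka,
        mul_zero, mul_zero, add_zero, add_zero, K.bet_symm hkU.1 hc.1, hkc]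
    have hkc' : K.bet k c' = 1 := (K.bet_symm hcU.1 hkU.1).trans hck
    let P : ZMod 2 × ZMod 2 × ZMod 2 × ZMod 2 × ZMod 2 → K.U y := fun p =>
      ⟨pw a p.1 * pw b p.2.1 * pw k p.2.2.1 * pw c' p.2.2.2.1 * K.tp p.2.2.2.2,
        mul_mem (mul_mem (mul_mem (mul_mem (pw_mem (hUm ha) _) (pw_mem (hUm hb) _)) (pw_mem (hUm hkU) _))
          (pw_mem (hUm hcU) _)) (hUm (htU _))⟩
    have hinj : Function.Injective P := by
      rintro ⟨i, j, l, m, s⟩ ⟨i', j', l', m', s'⟩ h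
      have h' : pw a i * pw b j * pw k l * pw c' m * K.tp s =
          pw a i' * pw b j' * pw k l' * pw c' m' * K.tp s' := congrArg Subtype.val h
      have mk : ∀ i, pw k i ∈ K.Q := pw_mem hkU.1
      have mc : ∀ i, pw c' i ∈ K.Q := pw_mem hcU.1
      have hb5 : ∀ (i j l m s : ZMod 2) (w : C), K.Fixed y w →
          K.bet (pw a i * pw b j * pw k l * pw c' m * K.tp s) w =
            i * K.bet a w + j * K.bet b w + l * K.bet k w + m * K.bet c' w := by
        intro i j l m s w hw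
        rw [K.bet_mul_left (mul_mem (mul_mem (mul_mem (maQ i) (mbQ j)) (mk l)) (mc m)) (K.tp_mem s) hw.1,
          K.bet_mul_left (mul_mem (mul_mem (maQ i) (mbQ j)) (mk l)) (mc m) hw.1,
          K.bet_mul_left (mul_mem (maQ i) (mbQ j)) (mk l) hw.1, K.bet_mul_left (maQ i) (mbQ j) hw.1,
          K.bet_tp hw.1, add_zero, K.bet_pw ha.1 hw.1, K.bet_pw hb.1 hw.1, K.bet_pw hkU.1 hw.1,
          K.bet_pw hcU.1 hw.1]
      have hw : ∀ w, K.Fixed y w → i * K.bet a w + j * K.bet b w + l * K.bet k w + m * K.bet c' w =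
          i' * K.bet a w + j' * K.bet b w + l' * K.bet k w + m' * K.bet c' w := by
        intro w hw
        rw [← hb5 i j l m s w hw, h', hb5 i' j' l' m' s' w hw]
      have e1 := hw b hb
      have e2 := hw a ha
      have e3 := hw c' hcU
      have e4 := hw k hkU
      rw [hab, K.bet_self hb.1, hkb, hcb] at e1
      rw [hba, K.bet_self ha.1, hka, hca] at e2
      rw [hkc', K.bet_self hcU.1, K.bet_symm hcU.1 ha.1, hca, K.bet_symm hcU.1 hb.1, hcb] at e3
      rw [hck, K.bet_self hkU.1, K.bet_symm hkU.1 ha.1, hka, K.bet_symm hkU.1 hb.1, hkb] at e4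
      simp only [mul_one, mul_zero, add_zero, zero_add] at e1 e2 e3 e4
      subst e1 e2 e3 e4
      rw [K.tp_inj (mul_left_cancel h')]
    have := Nat.card_le_card_of_injective P hinj
    rw [hn] at this
    simp at this
  obtain rfl : n = 1 := by tauto
  have hsub : ({1, K.t} : Set C) = (K.U y : Set C) := by
    refine Set.eq_of_subset_of_ncard_le ?_ ?_
    · rintro x (rfl | rfl)
      · exact one_mem _
      · exact K.mem_U.2 (K.tp_one ▸ htU 1)
    · rw [Set.ncard_pair K.t_ne.symm, ← Nat.card_coe_set_eq, SetLike.coe_sort_coe, hn, pow_one]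
  have hm : u ∈ ({1, K.t} : Set C) := hsub ▸ K.mem_U.2 hu
  rcases hm with rfl | rfl
  exacts [⟨0, K.tp_zero.symm⟩, ⟨1, K.tp_one.symm⟩]

end Ctx

end Cfsg.Agent.Spor.HeldCent
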