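import Mathlib
import Cfsg.Agent.Lib.Spor.HeldCent.Ctx
import Cfsg.Agent.Lib.Spor.HeldCent.Code

/-!
The element of order seven gives coordinates on the extraspecial group: two transversal halves spanned by
conjugates of one involution each.
-/

set_option autoImplicit false
set_option maxRecDepth 1000000

namespace Cfsg.Agent.Spor.HeldCent

universe u

theorem xor_bits : ∀ m < 8, ∀ n < 8, (((m ^^^ n : ℕ) : ZMod 2) = m + n) ∧
    ((((m ^^^ n) / 2 : ℕ) : ZMod 2) = (m / 2 : ℕ) + (n / 2 : ℕ)) ∧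
    ((((m ^^^ n) / 4 : ℕ) : ZMod 2) = (m / 4 : ℕ) + (n / 4 : ℕ)) := by decide +kernel

theorem qm_parts : ∀ a < 128, ∀ b < 128, qm a b % 8 = a % 8 ^^^ b % 8 ∧ qm a b / 8 % 8 = a / 8 % 8 ^^^ b / 8 % 8 ∧
    qm a b / 64 % 2 = (a / 64 + b / 64 + betaTab >>> ((a / 8 % 8) * 8 + b % 8)) % 2 := by decide +kernel

theorem qm_comm : ∀ a < 128, ∀ b < 128, qm a b = qm (64 * cbit a b) (qm b a) := by decide +kernel

theorem cbit_low : ∀ a < 128, ∀ b < 128, cbit a b = cbit (a % 64) (b % 64) := by decide +kernel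

theorem cbit_sep : ∀ a < 64, ∀ b < 64, (∀ i < 6, cbit a (2 ^ i) = cbit b (2 ^ i)) → a = b := by decide +kernel

theorem high_code : ∀ a < 64, a + 64 = qm a 64 := by decide +kernel

/-- the images of the seven generators under the element of order seven -/
def imgY7 : List ℕ := [2, 4, 3, 16, 32, 40, 64]

/-- the pairing of the two halves -/
theorem beta_spec : ∀ a < 8, ∀ b < 8,
    ((betaTab >>> (a * 8 + b) : ℕ) : ZMod 2) =
      (a : ZMod 2) * b + ((a / 2 : ℕ) : ZMod 2) * (b + (b / 2 : ℕ)) +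
        ((a / 4 : ℕ) : ZMod 2) * (b + (b / 2 : ℕ) + (b / 4 : ℕ)) := by decide +kernel

theorem sum_norm : ∀ a0 a1 a2 a3 a4 a5 a6 : ZMod 2,
    a6 + a4 + a3 + (a5 + a3 + a2) + (a3 + a1 + a0) = a6 + a5 + a4 + a3 + a2 + a1 + a0 ∧
    a6 + a5 + a3 + (a4 + a3 + a1) + (a3 + a2 + a0) = a6 + a5 + a4 + a3 + a2 + a1 + a0 ∧
    a4 + a2 + a1 + (a4 + a3 + a1) + (a3 + a2 + a0) = a0 := by decide +kernel

theorem sum_zero : ∀ g0 g1 g2 g3 g4 : ZMod 2,
    (g3 + g1 + g0 = 0 → g4 + g2 + g1 = 0 → g0 + g2 + g3 = 0 → g1 + g3 + g4 = 0 → g0 = 0) ∧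
    (g3 + g2 + g0 = 0 → g4 + g3 + g1 = 0 → g0 + g1 + g3 = 0 → g1 + g2 + g4 = 0 → g0 = 0) := by decide +kernel

theorem window : ∀ b c : ZMod 2, ∃ s < 7, ∀ g : ℕ → ZMod 2, g 0 = 1 → g 1 = b → g 2 = c →
    (∀ k ≤ 5, g (k + 3) = g (k + 1) + g k) → g s = 1 ∧ g (s + 1) = 0 ∧ g (s + 2) = 0 := by
  intro b c
  rcases zmod_two_cases b with rfl | rfl <;> rcases zmod_two_cases c with rfl | rfl
  · exact ⟨0, by norm_num, fun g h0 h1 h2 _ => ⟨h0, h1, h2⟩⟩
  · refine ⟨4, by norm_num, fun g h0 h1 h2 h => ?_⟩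
    have r0 := h 0 (by norm_num); have r1 := h 1 (by norm_num); have r2 := h 2 (by norm_num)
    have r3 := h 3 (by norm_num)
    simp only [Nat.reduceAdd] at r0 r1 r2 r3 ⊢
    rw [h1, h0] at r0; rw [h2, h1] at r1; rw [r0, h2] at r2; rw [r1, r0] at r3
    rw [r1, r2, r3]; decide
  · refine ⟨1, by norm_num, fun g h0 h1 h2 h => ?_⟩
    have r0 := h 0 (by norm_num)
    simp only [Nat.reduceAdd] at r0 ⊢
    rw [h1, h0] at r0
    rw [h1, h2, r0]; decide
  · refine ⟨2, by norm_num, fun g h0 h1 h2 h => ?_⟩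
    have r0 := h 0 (by norm_num); have r1 := h 1 (by norm_num)
    simp only [Nat.reduceAdd] at r0 r1 ⊢
    rw [h1, h0] at r0; rw [h2, h1] at r1
    rw [r0, r1, h2]; decide

namespace Ctx

variable {C : Type u} [Group C] (K : Ctx C) {y : C}

theorem bet_mul3 {a b c v : C} (ha : a ∈ K.Q) (hb : b ∈ K.Q) (hc : c ∈ K.Q) (hv : v ∈ K.Q) :
    K.bet (a * b * c) v = K.bet a v + K.bet b v + K.bet c v := by
  rw [K.bet_mul_left (mul_mem ha hb) hc hv, K.bet_mul_left ha hb hv]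

/-- the two operators -/
def opD (y : C) (p : ℕ) (u : C) : C := Yk y 3 u * Yk y p u * u

/-- the kernel of an operator modulo the centre -/
def Ker (y : C) (p : ℕ) (u : C) : Prop :=
  u ∈ K.Q ∧ ∀ v ∈ K.Q, K.bet (Yk y 3 u) v + K.bet (Yk y p u) v + K.bet u v = 0

theorem opD_mem (p : ℕ) {u : C} (hu : u ∈ K.Q) : opD y p u ∈ K.Q :=
  mul_mem (mul_mem (K.Yk_mem _ hu) (K.Yk_mem _ hu)) hu

theorem bet_opD (p : ℕ) {u v : C} (hu : u ∈ K.Q) (hv : v ∈ K.Q) :
    K.bet (opD y p u) v = K.bet (Yk y 3 u) v + K.bet (Yk y p u) v + K.bet u v :=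
  K.bet_mul3 (K.Yk_mem _ hu) (K.Yk_mem _ hu) hu hv

variable (hy : y ^ 7 = 1)

include hy in
theorem ker_Yk {p : ℕ} {u : C} (hu : K.Ker y p u) {k : ℕ} (hk : k ≤ 7) : K.Ker y p (Yk y k u) := by
  refine ⟨K.Yk_mem _ hu.1, fun v hv => ?_⟩
  have e : ∀ i, K.bet (Yk y i (Yk y k u)) v = K.bet (Yk y i u) (Yk y (7 - k) v) := fun i => by
    rw [Yk_Yk, add_comm, ← Yk_Yk, K.bet_shift hy (show k + (7 - k) = 7 by omega) (K.Yk_mem _ hu.1) hv]
  have e0 := e 0
  rw [Yk_zero, Yk_zero] at e0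
  rw [e, e, e0]
  exact hu.2 _ (K.Yk_mem _ hv)

include hy in
theorem ker_comm {p : ℕ} (hp : p = 1 ∨ p = 2) {u v : C} (hu : K.Ker y p u) (hv : K.Ker y p v) : K.bet u v = 0 := by
  have hi : ∀ i j, j ≤ 7 → K.bet (Yk y i u) (Yk y j v) = K.bet (Yk y (7 - j + i) u) v := fun i j hj => by
    rw [← Yk_Yk, K.bet_shift hy (show 7 - j + j = 7 by omega) (K.Yk_mem _ hu.1) hv.1]
  have hv' : ∀ i j, i ≤ 7 → K.bet (Yk y i v) (Yk y j u) = K.bet (Yk y (7 - i + j) u) v := fun i j hj => by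
    rw [K.bet_symm (K.Yk_mem _ hu.1) (K.Yk_mem _ hv.1), hi j i hj]
  have h7 : ∀ k, K.bet (Yk y (k + 7) u) v = K.bet (Yk y k u) v := fun k => by rw [Yk_seven hy]
  have h0 : K.bet u v = K.bet (Yk y 0 u) v := by rw [Yk_zero]
  have a0 := hu.2 v hv.1
  have a1 := hu.2 (Yk y 6 v) (K.Yk_mem _ hv.1)
  rw [hi 3 6 (by norm_num), hi p 6 (by norm_num),
    show K.bet u (Yk y 6 v) = K.bet (Yk y 0 u) (Yk y 6 v) by rw [Yk_zero], hi 0 6 (by norm_num)] at a1
  have b : ∀ j, K.bet (Yk y (7 - 3 + j) u) v + K.bet (Yk y (7 - p + j) u) v + K.bet (Yk y (7 + j) u) v = 0 := by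
    intro j
    have := hv.2 (Yk y j u) (K.Yk_mem _ hu.1)
    rw [hv' 3 j (by norm_num), hv' p j (by omega),
      show K.bet v (Yk y j u) = K.bet (Yk y 0 v) (Yk y j u) by rw [Yk_zero], hv' 0 j (by norm_num)] at this
    exact this
  have b3 := b 3
  have b4 := b 4
  rw [h0] at a0 ⊢
  rcases hp with rfl | rfl
  · simp only [Nat.reduceAdd, Nat.reduceSub] at a0 a1 b3 b4
    rw [show (7 : ℕ) = 0 + 7 from rfl, h7, show (9 : ℕ) = 2 + 7 from rfl, h7, show (10 : ℕ) = 3 + 7 from rfl, h7] at b3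
    rw [show (8 : ℕ) = 1 + 7 from rfl, h7, show (10 : ℕ) = 3 + 7 from rfl, h7, show (11 : ℕ) = 4 + 7 from rfl, h7] at b4
    exact (sum_zero _ (K.bet (Yk y 1 u) v) (K.bet (Yk y 2 u) v) (K.bet (Yk y 3 u) v) (K.bet (Yk y 4 u) v)).1 a0
      (by linear_combination a1) (by linear_combination b3) (by linear_combination b4)
  · simp only [Nat.reduceAdd, Nat.reduceSub] at a0 a1 b3 b4
    rw [show (7 : ℕ) = 0 + 7 from rfl, h7, show (8 : ℕ) = 1 + 7 from rfl, h7, show (10 : ℕ) = 3 + 7 from rfl, h7] at b3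
    rw [show (8 : ℕ) = 1 + 7 from rfl, h7, show (9 : ℕ) = 2 + 7 from rfl, h7, show (11 : ℕ) = 4 + 7 from rfl, h7] at b4
    exact (sum_zero _ (K.bet (Yk y 1 u) v) (K.bet (Yk y 2 u) v) (K.bet (Yk y 3 u) v) (K.bet (Yk y 4 u) v)).2 a0
      (by linear_combination a1) (by linear_combination b3) (by linear_combination b4)

theorem comm_of_bet {u v : C} (hu : u ∈ K.Q) (hv : v ∈ K.Q) (h : K.bet u v = 0) : Commute u v := by
  have := K.bet_spec hu hv
  rwa [h, tp_zero, one_mul] at this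

include hy in
theorem ker_sq {p : ℕ} (hp : p = 1 ∨ p = 2) {u : C} (hu : K.Ker y p u) : u * u = 1 := by
  have h3 := K.ker_Yk hy hu (show 3 ≤ 7 by norm_num)
  have hp' := K.ker_Yk hy hu (show p ≤ 7 by omega)
  obtain ⟨b, hb⟩ := K.exists_tp (K.opD_mem (y := y) p hu.1) fun v hv => (K.bet_opD p hu.1 hv).trans (hu.2 v hv)
  have hc : ∀ {a c : C}, K.Ker y p a → K.Ker y p c → Commute a c := fun ha hc =>
    K.comm_of_bet ha.1 hc.1 (K.ker_comm hy hp ha hc)
  obtain ⟨s, hs⟩ : ∃ s, u * u = K.tp s := by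
    rcases K.sq_cases u hu.1 with h | h
    exacts [⟨0, by rw [h, tp_zero]⟩, ⟨1, by rw [h, tp_one]⟩]
  have hsq : opD y p u * opD y p u = Yk y 3 (u * u) * Yk y p (u * u) * (u * u) := by
    unfold opD
    rw [((hc hu h3).mul_right (hc hu hp')).mul_mul_mul_comm, (hc hp' h3).mul_mul_mul_comm, Yk_mul, Yk_mul]
  rw [hb, hs, K.Yk_tp, K.Yk_tp, ← K.tp_add, ← K.tp_add, ← K.tp_add] at hsq
  rw [hs]
  have h := K.tp_inj hsq
  have key : ∀ b s : ZMod 2, b + b = s + s + s → s = 0 := by decide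
  have : s = 0 := key _ _ h
  rw [this, tp_zero]

include hy in
theorem opD_ker [Finite C] (hy1 : y ≠ 1) {x : C} (hx : x ∈ K.Q) :
    K.Ker y 2 (opD y 1 x) ∧ K.Ker y 1 (opD y 2 x) := by
  have m := fun k => K.Yk_mem (y := y) k hx
  have hN : ∀ v ∈ K.Q, K.bet (norm y x) v = 0 := fun v hv => by
    obtain ⟨b, hb⟩ := K.fixed_eq_tp hy hy1 (K.norm_fixed hy hx)
    rw [hb, K.bet_tp hv]
  constructor <;> refine ⟨K.opD_mem _ hx, fun v hv => ?_⟩ <;>
    rw [← hN v hv, K.bet_norm hx hv] <;> unfold opD <;>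
    simp only [Yk_mul, Yk_Yk, Nat.reduceAdd] <;>
    rw [K.bet_mul3 (m _) (m _) (m _) hv, K.bet_mul3 (m _) (m _) (m _) hv, K.bet_mul3 (m _) (m _) hx hv, Yk_zero]
  · exact (sum_norm _ _ _ _ _ _ _).1
  · exact (sum_norm _ _ _ _ _ _ _).2.1

theorem bezout {x v : C} (hx : x ∈ K.Q) (hv : v ∈ K.Q) :
    K.bet (Yk y 1 (opD y 1 x)) v + K.bet (Yk y 1 (opD y 2 x)) v + K.bet (opD y 2 x) v = K.bet x v := by
  have m := fun k => K.Yk_mem (y := y) k hx
  unfold opD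
  simp only [Yk_mul, Yk_Yk, Nat.reduceAdd]
  rw [K.bet_mul3 (m _) (m _) (m _) hv, K.bet_mul3 (m _) (m _) (m _) hv, K.bet_mul3 (m _) (m _) hx hv]
  exact (sum_norm (K.bet x v) _ _ _ _ 0 0).2.2

theorem exists_bet_one : ∃ u ∈ K.Q, ∃ v ∈ K.Q, K.bet u v = 1 := by
  by_contra hno
  push Not at hno
  have hsub : (K.Q : Set C) ⊆ {1, K.t} := fun u hu => by
    obtain ⟨b, hb⟩ := K.exists_tp hu fun v hv => (zmod_two_cases _).resolve_right (hno u hu v hv)
    rcases zmod_two_cases b with rfl | rfl <;> simp [hb]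
  have h1 := Set.ncard_le_ncard hsub
  have h2 : ({1, K.t} : Set C).ncard ≤ 2 := (Set.ncard_insert_le _ _).trans (by simp)
  rw [← Nat.card_coe_set_eq, SetLike.coe_sort_coe, K.card] at h1
  omega

theorem Yk_tp_mul (k : ℕ) (b : ZMod 2) (u : C) : Yk y k (K.tp b * u) = K.tp b * Yk y k u := by
  rw [Yk_mul, K.Yk_tp]

include hy in
theorem ker_fix {p : ℕ} (hp : p = 1 ∨ p = 2) {u : C} (hu : K.Ker y p u) :
    ∃ b, K.Ker y p (K.tp b * u) ∧ Yk y 3 (K.tp b * u) = (K.tp b * u) * Yk y p (K.tp b * u) := by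
  obtain ⟨b, hb⟩ := K.exists_tp (K.opD_mem (y := y) p hu.1) fun v hv => (K.bet_opD p hu.1 hv).trans (hu.2 v hv)
  have hk : K.Ker y p (K.tp b * u) := by
    refine ⟨mul_mem (K.tp_mem b) hu.1, fun v hv => ?_⟩
    rw [K.Yk_tp_mul, K.Yk_tp_mul, K.bet_mul_left (K.tp_mem b) (K.Yk_mem _ hu.1) hv,
      K.bet_mul_left (K.tp_mem b) (K.Yk_mem _ hu.1) hv, K.bet_mul_left (K.tp_mem b) hu.1 hv, K.bet_tp hv,
      zero_add, zero_add, zero_add]
    exact hu.2 v hv
  refine ⟨b, hk, ?_⟩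
  have h3 := K.ker_Yk hy hk (show 3 ≤ 7 by norm_num)
  have hp' := K.ker_Yk hy hk (show p ≤ 7 by omega)
  have hD : opD y p (K.tp b * u) = 1 := by
    have e : opD y p (K.tp b * u) = K.tp b * K.tp b * K.tp b * opD y p u := by
      unfold opD
      rw [K.Yk_tp_mul, K.Yk_tp_mul,
        (show Commute (Yk y 3 u) (K.tp b) from K.tp_comm b _).mul_mul_mul_comm,
        (show Commute (Yk y 3 u * Yk y p u) (K.tp b) from K.tp_comm b _).mul_mul_mul_comm]
    rw [e, hb, ← K.tp_add, ← K.tp_add, ← K.tp_add]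
    have : ∀ b : ZMod 2, b + b + b + b = 0 := by decide
    rw [this, tp_zero]
  unfold opD at hD
  set a := K.tp b * u
  have i1 := K.ker_sq hy hp hp'
  have i2 := K.ker_sq hy hp hk
  calc Yk y 3 a = (Yk y 3 a * Yk y p a * a) * (a * Yk y p a) := by
        rw [show Yk y 3 a * Yk y p a * a * (a * Yk y p a) = Yk y 3 a * Yk y p a * (a * a) * Yk y p a by group, i2,
          mul_one, mul_assoc, i1, mul_one]
    _ = a * Yk y p a := by rw [hD, one_mul]

/-- a product of three commuting involutions chosen by three bits -/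
noncomputable def tri (a b c : C) (n : ℕ) : C :=
  pw a (n : ZMod 2) * pw b ((n / 2 : ℕ) : ZMod 2) * pw c ((n / 4 : ℕ) : ZMod 2)

omit K in
theorem pw_mul {x : C} (hx : x * x = 1) (i j : ZMod 2) : pw x i * pw x j = pw x (i + j) := by
  rcases zmod_two_cases i with rfl | rfl <;> rcases zmod_two_cases j with rfl | rfl <;>
    simp [pw, hx, show (1 : ZMod 2) + 1 = 0 from rfl]

omit K in
theorem pw_comm {a b : C} (h : Commute a b) (i j : ZMod 2) : Commute (pw a i) (pw b j) := by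
  unfold pw; split_ifs <;> simp [h]

omit K in
theorem tri_mul {a b c : C} (ha : a * a = 1) (hb : b * b = 1) (hc : c * c = 1) (hab : Commute a b)
    (hac : Commute a c) (hbc : Commute b c) {m n : ℕ} (hm : m < 8) (hn : n < 8) :
    tri a b c m * tri a b c n = tri a b c (m ^^^ n) := by
  obtain ⟨h1, h2, h3⟩ := xor_bits m hm n hn
  unfold tri
  rw [((pw_comm hac.symm _ _).mul_right (pw_comm hbc.symm _ _)).mul_mul_mul_comm,
    (pw_comm hab.symm _ _).mul_mul_mul_comm, pw_mul ha, pw_mul hb, pw_mul hc, h1, h2, h3]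

/-- Coordinates on the extraspecial group adapted to the element of order seven. -/
structure Coords (y : C) where
  ev : ℕ → C
  mem : ∀ q, ev q ∈ K.Q
  hmul : ∀ a b, a < 128 → b < 128 → ev a * ev b = ev (qm a b)
  inj : ∀ a b, a < 128 → b < 128 → ev a = ev b → a = b
  surj : ∀ u ∈ K.Q, ∃ q < 128, ev q = u
  hy : ∀ i < 7, y * ev (2 ^ i) * y⁻¹ = ev (imgY7.getD i 0)
  central : ev 64 = K.t

include hy in
theorem exists_coords [Finite C] (hy1 : y ≠ 1) : Nonempty (K.Coords y) := by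
  -- an element of the first kernel outside the centre
  obtain ⟨e0, f0, he0, hf0, hef⟩ : ∃ e f, K.Ker y 1 e ∧ K.Ker y 2 f ∧ K.bet e f = 1 := by
    obtain ⟨x0, hx0, v0, hv0, h⟩ : ∃ x ∈ K.Q, ∃ v ∈ K.Q, K.bet (opD y 2 x) v = 1 := by
      by_contra hno
      push Not at hno
      have hz : ∀ x ∈ K.Q, ∀ v ∈ K.Q, K.bet (opD y 2 x) v = 0 := fun x hx v hv =>
        (zmod_two_cases _).resolve_right (hno x hx v hv)
      obtain ⟨u, hu, v, hv, h⟩ := K.exists_bet_one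
      have k1 := fun {x} (hx : x ∈ K.Q) => K.ker_Yk hy (K.opD_ker hy hy1 hx).1 (show 1 ≤ 7 by norm_num)
      have e : ∀ x ∈ K.Q, ∀ w ∈ K.Q, K.bet x w = K.bet (Yk y 1 (opD y 1 x)) w := fun x hx w hw => by
        rw [← K.bezout (y := y) hx hw, hz x hx w hw, K.bet_shift hy (show 1 + 6 = 7 from rfl)
          (K.opD_mem 2 hx) hw, hz x hx _ (K.Yk_mem _ hw), add_zero, add_zero]
      rw [e u hu v hv, K.bet_symm hv (k1 hu).1, e v hv _ (k1 hu).1, K.ker_comm hy (Or.inr rfl) (k1 hv) (k1 hu)] at h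
      exact zero_ne_one h
    have he := (K.opD_ker hy hy1 hx0).2
    have hf := K.ker_Yk hy (K.opD_ker hy hy1 hv0).1 (show 1 ≤ 7 by norm_num)
    refine ⟨_, _, he, hf, ?_⟩
    have hk := (K.opD_ker hy hy1 hv0).2
    have hk' := K.ker_Yk hy hk (show 1 ≤ 7 by norm_num)
    have hb := K.bezout (y := y) hv0 he.1
    rw [K.ker_comm hy (Or.inl rfl) hk' he, K.ker_comm hy (Or.inl rfl) hk he, add_zero, add_zero] at hb
    rw [K.bet_symm hf.1 he.1, hb, K.bet_symm he.1 hv0, h]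
  -- shift the second one
  obtain ⟨s, hs, hwin⟩ := window (K.bet (Yk y 1 e0) f0) (K.bet (Yk y 2 e0) f0)
  obtain ⟨w0, w1, w2⟩ := hwin (fun k => K.bet (Yk y k e0) f0) (by rw [Yk_zero]; exact hef) rfl rfl (fun k hk => by
    have h := (K.ker_Yk hy he0 (show k ≤ 7 by omega)).2 f0 hf0.1
    rw [Yk_Yk, Yk_Yk, add_comm 3, add_comm 1] at h
    revert h
    generalize K.bet (Yk y (k + 3) e0) f0 = a, K.bet (Yk y (k + 1) e0) f0 = b, K.bet (Yk y k e0) f0 = c
    revert a b c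
    decide)
  obtain ⟨b1, he, he3⟩ := K.ker_fix hy (Or.inl rfl) he0
  obtain ⟨b2, hf, hf3⟩ := K.ker_fix hy (Or.inr rfl) (K.ker_Yk hy hf0 (show 7 - s ≤ 7 by omega))
  set e := K.tp b1 * e0 with hedef
  set f := K.tp b2 * Yk y (7 - s) f0 with hfdef
  have hbet : ∀ j, K.bet (Yk y j e) f = K.bet (Yk y (s + j) e0) f0 := fun j => by
    rw [hedef, hfdef, K.Yk_tp_mul, K.bet_mul_left (K.tp_mem _) (K.Yk_mem _ he0.1) hf.1, K.bet_tp hf.1, zero_add,
      K.bet_symm hf.1 (K.Yk_mem _ he0.1), K.bet_mul_left (K.tp_mem _) (K.Yk_mem _ hf0.1) (K.Yk_mem _ he0.1),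
      K.bet_tp (K.Yk_mem _ he0.1), zero_add, K.bet_symm (K.Yk_mem _ he0.1) (K.Yk_mem _ hf0.1), ← Yk_Yk s j,
      K.bet_shift hy (show s + (7 - s) = 7 by omega) (K.Yk_mem _ he0.1) hf0.1]
  have B00 : K.bet e f = 1 := by have := hbet 0; rw [Yk_zero] at this; exact this.trans w0
  have B10 : K.bet (Yk y 1 e) f = 0 := (hbet 1).trans w1
  have B20 : K.bet (Yk y 2 e) f = 0 := (hbet 2).trans w2
  clear_value e f
  have ke := fun {k} (hk : k ≤ 7) => K.ker_Yk hy he hk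
  have kf := fun {k} (hk : k ≤ 7) => K.ker_Yk hy hf hk
  have hE : ∀ j, j ≤ 3 → K.bet (Yk y j e) f = if j = 1 ∨ j = 2 then 0 else 1 := by
    intro j hj
    interval_cases j
    · rw [Yk_zero, B00]; rfl
    · rw [B10]; rfl
    · rw [B20]; rfl
    · rw [he3, K.bet_mul_left he.1 (K.Yk_mem _ he.1) hf.1, B00, B10]; rfl
  have h56 : K.bet (Yk y 5 e) f = 1 ∧ K.bet (Yk y 6 e) f = 1 := by
    have k4 : Yk y 4 e = Yk y 1 e * Yk y 2 e := by rw [← Yk_Yk 1 3, he3, Yk_mul, Yk_Yk]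
    have k5 : Yk y 5 e = Yk y 2 e * Yk y 3 e := by conv_lhs => rw [← Yk_Yk 2 3, he3, Yk_mul, Yk_Yk]
    have k6 : Yk y 6 e = Yk y 3 e * Yk y 4 e := by
      have h6 := congrArg (Yk y 3) he3
      rwa [Yk_Yk, Yk_mul, Yk_Yk] at h6
    have q := fun k => K.Yk_mem (y := y) k he.1
    rw [k5, k6, K.bet_mul_left (q _) (q _) hf.1, K.bet_mul_left (q _) (q _) hf.1, k4,
      K.bet_mul_left (q _) (q _) hf.1, hE 3 le_rfl, hE 2 (by norm_num), hE 1 (by norm_num)]
    exact ⟨rfl, rfl⟩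
  -- the six generators
  have qe := fun k => K.Yk_mem (y := y) k he.1
  have qf := fun k => K.Yk_mem (y := y) k hf.1
  have se : ∀ k, k ≤ 7 → Yk y k e * Yk y k e = 1 := fun k hk => K.ker_sq hy (Or.inl rfl) (ke hk)
  have sf : ∀ k, k ≤ 7 → Yk y k f * Yk y k f = 1 := fun k hk => K.ker_sq hy (Or.inr rfl) (kf hk)
  have ce : ∀ i j, i ≤ 7 → j ≤ 7 → Commute (Yk y i e) (Yk y j e) := fun i j hi hj =>
    K.comm_of_bet (qe i) (qe j) (K.ker_comm hy (Or.inl rfl) (ke hi) (ke hj))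
  have cf : ∀ i j, i ≤ 7 → j ≤ 7 → Commute (Yk y i f) (Yk y j f) := fun i j hi hj =>
    K.comm_of_bet (qf i) (qf j) (K.ker_comm hy (Or.inr rfl) (kf hi) (kf hj))
  let pe := tri (Yk y 0 e) (Yk y 1 e) (Yk y 2 e)
  let pf := tri (Yk y 0 f) (Yk y 1 f) (Yk y 2 f)
  have mpe : ∀ n, pe n ∈ K.Q := fun n => mul_mem (mul_mem (pw_mem (qe 0) _) (pw_mem (qe 1) _)) (pw_mem (qe 2) _)
  have mpf : ∀ n, pf n ∈ K.Q := fun n => mul_mem (mul_mem (pw_mem (qf 0) _) (pw_mem (qf 1) _)) (pw_mem (qf 2) _)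
  have bfe : ∀ a < 8, ∀ b < 8, K.bet (pf a) (pe b) = ((betaTab >>> (a * 8 + b) : ℕ) : ZMod 2) := by
    intro a ha b hb
    have p1 : ∀ i j, i ≤ 2 → K.bet (Yk y i f) (Yk y j e) = K.bet (Yk y (7 - i + j) e) f := fun i j hi => by
      rw [K.bet_symm (qe j) (qf i), ← Yk_Yk (7 - i) j,
        K.bet_shift hy (show 7 - i + i = 7 by omega) (qe j) hf.1]
    have row : ∀ i, i ≤ 2 → K.bet (Yk y i f) (pe b) = (b : ZMod 2) * K.bet (Yk y (7 - i + 0) e) f +
        ((b / 2 : ℕ) : ZMod 2) * K.bet (Yk y (7 - i + 1) e) f +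
        ((b / 4 : ℕ) : ZMod 2) * K.bet (Yk y (7 - i + 2) e) f := fun i hi => by
      rw [K.bet_symm (mpe b) (qf i)]
      show K.bet (pw _ _ * pw _ _ * pw _ _) _ = _
      rw [K.bet_mul3 (pw_mem (qe 0) _) (pw_mem (qe 1) _) (pw_mem (qe 2) _) (qf i), K.bet_pw (qe 0) (qf i),
        K.bet_pw (qe 1) (qf i), K.bet_pw (qe 2) (qf i), K.bet_symm (qf i) (qe 0), K.bet_symm (qf i) (qe 1),
        K.bet_symm (qf i) (qe 2), p1 i 0 hi, p1 i 1 hi, p1 i 2 hi]
    show K.bet (pw _ _ * pw _ _ * pw _ _) _ = _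
    rw [K.bet_mul3 (pw_mem (qf 0) _) (pw_mem (qf 1) _) (pw_mem (qf 2) _) (mpe b), K.bet_pw (qf 0) (mpe b),
      K.bet_pw (qf 1) (mpe b), K.bet_pw (qf 2) (mpe b), row 0 (by norm_num), row 1 (by norm_num), row 2 le_rfl]
    simp only [Nat.reduceAdd, Nat.reduceSub, Yk_seven hy 0, Yk_seven hy 1, Yk_seven hy 2]
    rw [hE 0 (by norm_num), hE 1 (by norm_num), hE 2 (by norm_num),
      h56.1, h56.2, beta_spec a ha b hb]
    simp
  let ev : ℕ → C := fun q => pe (q % 8) * pf (q / 8 % 8) * K.tp ((q / 64 : ℕ) : ZMod 2)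
  have mev : ∀ q, ev q ∈ K.Q := fun q => mul_mem (mul_mem (mpe _) (mpf _)) (K.tp_mem _)
  have hmul : ∀ a b, a < 128 → b < 128 → ev a * ev b = ev (qm a b) := by
    intro a b ha hb
    obtain ⟨h1, h2, h3⟩ := qm_parts a ha b hb
    have l8 : ∀ n, n % 8 < 8 := fun n => Nat.mod_lt _ (by norm_num)
    have he' : ∀ n m, pe (n % 8) * pe (m % 8) = pe (n % 8 ^^^ m % 8) := fun n m =>
      tri_mul (se 0 (by norm_num)) (se 1 (by norm_num)) (se 2 (by norm_num)) (ce 0 1 (by norm_num) (by norm_num))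
        (ce 0 2 (by norm_num) (by norm_num)) (ce 1 2 (by norm_num) (by norm_num)) (l8 n) (l8 m)
    have hf' : pf (a / 8 % 8) * pf (b / 8 % 8) = pf (a / 8 % 8 ^^^ b / 8 % 8) :=
      tri_mul (sf 0 (by norm_num)) (sf 1 (by norm_num)) (sf 2 (by norm_num)) (cf 0 1 (by norm_num) (by norm_num))
        (cf 0 2 (by norm_num) (by norm_num)) (cf 1 2 (by norm_num) (by norm_num)) (l8 _) (l8 _)
    show pe (a % 8) * pf (a / 8 % 8) * K.tp _ * (pe (b % 8) * pf (b / 8 % 8) * K.tp _) = _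
    set ta := ((a / 64 : ℕ) : ZMod 2)
    set tb := ((b / 64 : ℕ) : ZMod 2)
    set be := K.bet (pf (a / 8 % 8)) (pe (b % 8)) with hbe
    calc pe (a % 8) * pf (a / 8 % 8) * K.tp ta * (pe (b % 8) * pf (b / 8 % 8) * K.tp tb)
        = pe (a % 8) * (pf (a / 8 % 8) * pe (b % 8)) * pf (b / 8 % 8) * (K.tp ta * K.tp tb) := by
          rw [show pe (a % 8) * pf (a / 8 % 8) * K.tp ta * (pe (b % 8) * pf (b / 8 % 8) * K.tp tb) =
            pe (a % 8) * pf (a / 8 % 8) * (K.tp ta * (pe (b % 8) * pf (b / 8 % 8))) * K.tp tb by group,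
            ← K.tp_comm]
          group
      _ = (pe (a % 8) * pe (b % 8)) * (pf (a / 8 % 8) * pf (b / 8 % 8)) * K.tp (be + (ta + tb)) := by
          rw [K.bet_spec (mpf _) (mpe _), ← hbe, K.tp_add be, K.tp_add ta,
            show pe (a % 8) * (K.tp be * (pe (b % 8) * pf (a / 8 % 8))) * pf (b / 8 % 8) * (K.tp ta * K.tp tb) =
              pe (a % 8) * (K.tp be * (pe (b % 8) * pf (a / 8 % 8) * pf (b / 8 % 8))) * (K.tp ta * K.tp tb) by group,
            ← K.tp_comm]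
          group
      _ = ev (qm a b) := by
          rw [he' a b, hf', hbe, bfe _ (l8 _) _ (l8 _)]
          show _ = pe (qm a b % 8) * pf (qm a b / 8 % 8) * K.tp _
          rw [h1, h2, show ((qm a b / 64 : ℕ) : ZMod 2) = ((qm a b / 64 % 2 : ℕ) : ZMod 2) by
            rw [ZMod.natCast_mod], h3, ZMod.natCast_mod]
          push_cast
          ring_nf
          rfl
  have e64 : ev 64 = K.t := by simp [ev, pe, pf, tri, pw]
  have e0' : ev 0 = 1 := by simp [ev, pe, pf, tri, pw]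
  have hbev : ∀ a b, a < 128 → b < 128 → K.bet (ev a) (ev b) = (cbit a b : ZMod 2) := by
    intro a b ha hb
    refine K.bet_eq (mev a) (mev b) ?_
    have hc : cbit a b < 2 := Nat.mod_lt _ (by norm_num)
    rw [hmul _ _ ha hb, hmul _ _ hb ha, qm_comm a ha b hb, ← hmul _ _ (by omega) (qm_lt _ _)]
    congr 1
    interval_cases h : cbit a b
    · simpa using e0'
    · simpa using e64
  have inj : ∀ a b, a < 128 → b < 128 → ev a = ev b → a = b := by
    intro a b ha hb h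
    have hmod : a % 64 = b % 64 := by
      refine cbit_sep _ (Nat.mod_lt _ (by norm_num)) _ (Nat.mod_lt _ (by norm_num)) fun i hi => ?_
      have hp : 2 ^ i < 128 := by interval_cases i <;> norm_num
      have hp' : 2 ^ i % 64 = 2 ^ i := by interval_cases i <;> norm_num
      have e := (hbev a _ ha hp).symm.trans ((congrArg (fun x => K.bet x (ev (2 ^ i))) h).trans (hbev b _ hb hp))
      have e' : cbit a (2 ^ i) = cbit b (2 ^ i) := by
        have c1 : cbit a (2 ^ i) < 2 := Nat.mod_lt _ (by norm_num)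
        have c2 : cbit b (2 ^ i) < 2 := Nat.mod_lt _ (by norm_num)
        rw [ZMod.natCast_eq_natCast_iff', Nat.mod_eq_of_lt c1, Nat.mod_eq_of_lt c2] at e
        exact e
      rw [cbit_low a ha _ hp, cbit_low b hb _ hp, hp'] at e'
      exact e'
    by_contra hne
    obtain ⟨c, hc, hh⟩ : ∃ c < 64, ev (c + 64) = ev c := by
      rcases Nat.lt_or_gt_of_ne hne with hlt | hlt
      · exact ⟨a, by omega, by rw [show a + 64 = b by omega, h]⟩
      · exact ⟨b, by omega, by rw [show b + 64 = a by omega, h]⟩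
    rw [high_code c hc, ← hmul _ _ (by omega) (by norm_num), e64] at hh
    exact K.t_ne (mul_eq_left.1 hh)
  have surj : ∀ u ∈ K.Q, ∃ q < 128, ev q = u := by
    intro u hu
    have hbij : Function.Bijective (fun q : Fin 128 => (⟨ev q, mev q⟩ : K.Q)) :=
      (Nat.bijective_iff_injective_and_card _).2 ⟨fun a b h => Fin.ext (inj _ _ a.2 b.2 (congrArg Subtype.val h)),
        by rw [Nat.card_fin, K.card]⟩
    obtain ⟨q, hq⟩ := hbij.2 ⟨u, hu⟩
    exact ⟨q, q.2, congrArg Subtype.val hq⟩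
  refine ⟨⟨ev, mev, hmul, inj, surj, fun i hi => ?_, e64⟩⟩
  have hyk : ∀ u, y * u * y⁻¹ = Yk y 1 u := fun u => by rw [Yk, pow_one]
  rw [hyk]
  have p0 : ∀ x : C, pw x 0 = 1 := fun x => by simp [pw]
  have p1 : ∀ x : C, pw x 1 = x := fun x => by simp [pw]
  interval_cases i <;> simp [ev, pe, pf, tri, p0, p1, imgY7, Yk_mul, Yk_Yk, Yk_zero, he3, hf3, K.Yk_tp, K.tp_one,
    show (2 : ZMod 2) = 0 from rfl, show (3 : ZMod 2) = 1 from rfl, show (4 : ZMod 2) = 0 from rfl,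
    show (5 : ZMod 2) = 1 from rfl]
  all_goals exact K.tp_one ▸ K.Yk_tp 1 1

end Ctx

end Cfsg.Agent.Spor.HeldCent
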