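import Cfsg.Agent.Lib.Spor.HeldCent.KillCode

/-!
The tests on the involutions, case 0, by kernel computation.
-/

set_option autoImplicit false
set_option maxRecDepth 1000000
set_option maxHeartbeats 4000000
set_option Elab.async false

namespace Cfsg.Agent.Spor.HeldCent

theorem okClass_0b :
    (dat 0 true).okClass (repsOf 0 true) (conjOf 0 true) (exRep 0 true) (inE 0 true) = true := by
  decide +kernel

theorem okCount_0b : (dat 0 true).okCount (repsOf 0 true) (exRep 0 true) = true := by
  decide +kernel

end Cfsg.Agent.Spor.HeldCent
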