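import Cfsg.Agent.Lib.Spor.HeldCent.KillCode

/-!
The tests on the involutions, case 1, by kernel computation.
-/

set_option autoImplicit false
set_option maxRecDepth 1000000
set_option maxHeartbeats 4000000
set_option Elab.async false

namespace Cfsg.Agent.Spor.HeldCent

theorem okClass_1a :
    (dat 1 false).okClass (repsOf 1 false) (conjOf 1 false) (exRep 1 false) (inE 1 false) = true := by
  decide +kernel

theorem okCount_1a : (dat 1 false).okCount (repsOf 1 false) (exRep 1 false) = true := by
  decide +kernel

theorem okClass_1b :
    (dat 1 true).okClass (repsOf 1 true) (conjOf 1 true) (exRep 1 true) (inE 1 true) = true := by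
  decide +kernel

theorem okCount_1b : (dat 1 true).okCount (repsOf 1 true) (exRep 1 true) = true := by
  decide +kernel

theorem okE_1a : okE (inE 1 false) = true := by
  decide +kernel

end Cfsg.Agent.Spor.HeldCent
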