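import Cfsg.Agent.Lib.Spor.HeldCent.KillCode

/-!
The tests on the involutions, case 2, by kernel computation.
-/

set_option autoImplicit false
set_option maxRecDepth 1000000
set_option maxHeartbeats 4000000
set_option Elab.async false

namespace Cfsg.Agent.Spor.HeldCent

theorem okClass_2a :
    (dat 2 false).okClass (repsOf 2 false) (conjOf 2 false) (exRep 2 false) (inE 2 false) = true := by
  decide +kernel

theorem okCount_2a : (dat 2 false).okCount (repsOf 2 false) (exRep 2 false) = true := by
  decide +kernel

theorem okClass_2b :
    (dat 2 true).okClass (repsOf 2 true) (conjOf 2 true) (exRep 2 true) (inE 2 true) = true := by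
  decide +kernel

theorem okCount_2b : (dat 2 true).okCount (repsOf 2 true) (exRep 2 true) = true := by
  decide +kernel

theorem okE_2a : okE (inE 2 false) = true := by
  decide +kernel

end Cfsg.Agent.Spor.HeldCent
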