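import Cfsg.Agent.Lib.Spor.HeldCent.Coord
import Cfsg.Agent.Lib.Spor.HeldCent.Checks
import Cfsg.Agent.Lib.Spor.HeldCent.ChecksF0
import Cfsg.Agent.Lib.Spor.HeldCent.ChecksF1
import Cfsg.Agent.Lib.Spor.HeldCent.ChecksF2
import Cfsg.Agent.Lib.Spor.HeldCent.KillChecks0
import Cfsg.Agent.Lib.Spor.HeldCent.KillChecks1
import Cfsg.Agent.Lib.Spor.HeldCent.KillChecks2
import Cfsg.Agent.Lib.Char.CentFour.Reduce
import Cfsg.Agent.Lib.Char.Central
import Cfsg.Agent.Lib.Char.ZStar

/-!
Of the six possible centralisers only one occurs in a simple group of the order of the Held group: in the others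
the square roots of two commuting conjugates of the involution distinguish them, up to an elementary abelian
group of order sixteen, which is excluded by counting its orbits on the class.
-/

set_option autoImplicit false
set_option maxRecDepth 100000
set_option linter.unusedSectionVars false

namespace Cfsg.Agent.Spor.HeldCent

open Cfsg

theorem countP_range_mul (P : ℕ → Bool) (b : ℕ) : ∀ a : ℕ, (List.range (a * b)).countP P =
    ((List.range a).map fun l => (List.range b).countP fun q => P (l * b + q)).sum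
  | 0 => by simp
  | a + 1 => by
    rw [add_mul, one_mul, List.range_add, List.countP_append, countP_range_mul P b a, List.countP_map,
      List.range_succ, List.map_append, List.sum_append, List.map_singleton, List.sum_singleton]
    rfl

theorem Dat.mulC_div (D : Dat) (a b : ℕ) : D.mulC a b / 128 = D.lm (a / 128) (b / 128) := by
  have := qm_lt (qm (a % 128) (D.phiOf (a / 128) (b % 128))) (D.fOf (a / 128) (b / 128))
  unfold Dat.mulC
  omega

theorem Dat.cnt_eq (D : Dat) (r v : ℕ) :
    D.cnt r v = (List.range 21504).countP fun a => (D.mulC a a == v) && (D.mulC a r == D.mulC r a) := by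
  rw [show (21504 : ℕ) = 168 * 128 from rfl, countP_range_mul, Dat.cnt]
  refine congrArg List.sum (List.map_congr_left fun l _ => ?_)
  split_ifs with h
  · rfl
  · refine (List.countP_eq_zero.2 fun q hq hp => h ?_).symm
    rw [List.mem_range] at hq
    simp only [Bool.and_eq_true, beq_iff_eq] at hp ⊢
    rw [← hp.1, D.mulC_div, show (l * 128 + q) / 128 = l by omega]

theorem card_sub_countP (P : ℕ → Bool) (n : ℕ) :
    Nat.card {a : ℕ // a < n ∧ P a = true} = (List.range n).countP P := by
  classical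
  rw [Nat.card_congr (Equiv.subtypeEquivRight (q := fun a => a ∈ (Finset.range n).filter fun a => P a = true)
    fun a => by simp), Nat.card_eq_finsetCard, ← Nat.count_eq_card_filter_range]
  simp [Nat.count]

variable {G : Type*} [Group G]

/-- the number of square roots of `v` in the common centraliser of `t` and `u` -/
noncomputable def rootsIn (t u v : G) : ℕ := Nat.card {x : G // Commute x t ∧ Commute x u ∧ x * x = v}

theorem rootsIn_conj (t u v h : G) :
    rootsIn (h * t * h⁻¹) (h * u * h⁻¹) (h * v * h⁻¹) = rootsIn t u v := by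
  refine (Nat.card_congr ((MulAut.conj h).toEquiv.subtypeEquiv fun x => ?_)).symm
  show _ ↔ Commute (h * x * h⁻¹) _ ∧ Commute (h * x * h⁻¹) _ ∧ _
  rw [Commute.conj_iff, Commute.conj_iff]
  refine and_congr_right fun _ => and_congr_right fun _ => ?_
  show _ ↔ h * x * h⁻¹ * (h * x * h⁻¹) = h * v * h⁻¹
  rw [show h * x * h⁻¹ * (h * x * h⁻¹) = h * (x * x) * h⁻¹ by group, mul_left_inj, mul_right_inj]

theorem rootsIn_comm (t u v : G) : rootsIn t u v = rootsIn u t v :=
  Nat.card_congr (Equiv.subtypeEquivRight fun _ => and_left_comm)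

section Coded

variable [Finite G] {t : G} {D : Dat} (S : Sys (Subgroup.centralizer ({t} : Set G)) D)

/-- an element of the group from its code -/
def Sys.el (x : ℕ) : G := (S.evc x : G)

theorem Sys.el_comm (x : ℕ) : Commute (S.el x) t :=
  Subgroup.mem_centralizer_singleton_iff.1 (S.evc x).2

theorem Sys.el_mul (h : D.OK) {a b : ℕ} (ha : a < 21504) (hb : b < 21504) :
    S.el a * S.el b = S.el (D.mulC a b) := by
  rw [Sys.el, Sys.el, Sys.el, ← S.mul_evc h ha hb]; rfl

theorem Sys.el_inj (h : D.OK) {a b : ℕ} (ha : a < 21504) (hb : b < 21504) (e : S.el a = S.el b) : a = b :=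
  S.evc_inj h ha hb (Subtype.ext e)

theorem Sys.el_code (h : D.OK) {q : ℕ} (hq : q < 128) : S.el q = (S.ev q : G) := by
  rw [Sys.el, Sys.evc, Nat.mod_eq_of_lt hq, Nat.div_eq_of_lt hq, S.W_zero h, mul_one]

theorem Sys.el_surj (h : D.OK) (hC : Nat.card (Subgroup.centralizer ({t} : Set G)) = 21504) {x : G}
    (hx : Commute x t) : ∃ a, a < 21504 ∧ S.el a = x := by
  obtain ⟨a, ha⟩ := (S.evc_bij h hC).2 ⟨x, Subgroup.mem_centralizer_singleton_iff.2 hx⟩
  exact ⟨a, a.2, congrArg Subtype.val ha⟩

theorem Sys.roots_eq (h : D.OK) (hC : Nat.card (Subgroup.centralizer ({t} : Set G)) = 21504) {r v : ℕ}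
    (hr : r < 21504) (hv : v < 21504) : rootsIn t (S.el r) (S.el v) = D.cnt r v := by
  classical
  set P := fun a : ℕ => (D.mulC a a == v) && (D.mulC a r == D.mulC r a) with hP
  have hiff : ∀ a, a < 21504 → (P a = true ↔ Commute (S.el a) (S.el r) ∧ S.el a * S.el a = S.el v) := by
    intro a ha
    simp only [hP, Bool.and_eq_true, beq_iff_eq]
    constructor
    · rintro ⟨e1, e2⟩
      exact ⟨by rw [Commute, SemiconjBy, S.el_mul h ha hr, S.el_mul h hr ha, e2], by rw [S.el_mul h ha ha, e1]⟩
    · rintro ⟨e1, e2⟩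
      rw [Commute, SemiconjBy, S.el_mul h ha hr, S.el_mul h hr ha] at e1
      rw [S.el_mul h ha ha] at e2
      exact ⟨S.el_inj h (S.mulC_lt h ha ha) hv e2, S.el_inj h (S.mulC_lt h ha hr) (S.mulC_lt h hr ha) e1⟩
  let f : {a : ℕ // a < 21504 ∧ P a = true} → {x : G // Commute x t ∧ Commute x (S.el r) ∧ x * x = S.el v} :=
    fun a => ⟨S.el a, S.el_comm a, (hiff a a.2.1).1 a.2.2⟩
  have hf : Function.Bijective f := by
    refine ⟨fun a b e => Subtype.ext (S.el_inj h a.2.1 b.2.1 (congrArg (fun z => z.1) e :)), fun x => ?_⟩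
    obtain ⟨a, ha, hax⟩ := S.el_surj h hC x.2.1
    exact ⟨⟨a, ha, (hiff a ha).2 (hax ▸ x.2.2)⟩, Subtype.ext hax⟩
  have hcard := card_sub_countP P 21504
  rw [D.cnt_eq, rootsIn, ← Nat.card_congr (Equiv.ofBijective f hf), hcard]

/-- What the tests give on an involution of the centraliser other than the central one. -/
theorem Sys.invol_data (h : D.OK) (hC : Nat.card (Subgroup.centralizer ({t} : Set G)) = 21504)
    (hev : (S.ev 64 : G) = t) {reps conj : List ℕ} {ex : ℕ} {inE : ℕ → Bool}
    (hcl : D.okClass reps conj ex inE = true) (hco : D.okCount reps ex = true)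
    {x : ℕ} (hx : x < 21504) (hsq : D.mulC x x = 0) (h0 : x ≠ 0) (h64 : x ≠ 64) :
    ∃ g r, r < 21504 ∧ Commute g t ∧ g⁻¹ * S.el x * g = S.el r ∧ rootsIn t (S.el x) (S.el x) ≤ rootsIn t (S.el x) t ∧
      (inE x = true → r = ex) ∧ (inE x = false → rootsIn t (S.el x) (S.el x) < rootsIn t (S.el x) t) := by
  simp only [Dat.okClass, List.all_eq_true, List.mem_range, Bool.or_eq_true, Bool.not_eq_true', beq_eq_false_iff_ne,
    beq_iff_eq] at hcl
  have hx' : x / 128 * 128 + x % 128 = x := Nat.div_add_mod' x 128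
  have hl : D.lm (x / 128) (x / 128) = 0 := by rw [← D.mulC_div, hsq]
  have h1 := (hcl (x / 128) (by omega)).resolve_left (fun e => e hl) (x % 128) (Nat.mod_lt _ (by norm_num))
  simp only [hx', hsq, ne_eq, not_true_eq_false, false_or, h0, h64] at h1
  simp only [Dat.okInvol, Bool.and_eq_true, decide_eq_true_eq, beq_iff_eq] at h1
  set w := conj.getD (x / 128) 0
  set g := byteAt w (4 * (x % 128)) + 256 * byteAt w (4 * (x % 128) + 1)
  set i := byteAt w (4 * (x % 128) + 2)
  obtain ⟨⟨⟨hi, hg⟩, hxg⟩, hE⟩ := h1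
  have hmem : reps.getD i 0 ∈ reps := by rw [List.getD_eq_getElem _ _ hi]; exact List.getElem_mem hi
  set r := reps.getD i 0
  have ht : S.el 64 = t := by rw [S.el_code h (by norm_num), hev]
  simp only [Dat.okCount, List.all_eq_true, Bool.or_eq_true, Bool.and_eq_true, decide_eq_true_eq,
    beq_iff_eq] at hco
  have hr : r < 21504 := by
    rcases hco r hmem with e | e
    · omega
    · exact e.1
  have hgr : (S.el g)⁻¹ * S.el x * S.el g = S.el r := by
    rw [mul_assoc, S.el_mul h hx hg, hxg, ← S.el_mul h hg hr, inv_mul_cancel_left]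
  have hr64 : r ≠ 64 := fun e => by
    rw [e, ht] at hgr
    have hc : Commute (S.el g) t := S.el_comm g
    have : S.el x = t := by
      calc S.el x = S.el g * ((S.el g)⁻¹ * S.el x * S.el g) * (S.el g)⁻¹ := by group
        _ = t := by rw [hgr, hc.eq, mul_inv_cancel_right]
    exact h64 (S.el_inj h hx (by norm_num) (this.trans ht.symm))
  have hcnt := (hco r hmem).resolve_left hr64
  have hgt : (S.el g)⁻¹ * t * (S.el g)⁻¹⁻¹ = t := by
    rw [inv_inv, mul_assoc, ← (S.el_comm g).eq, inv_mul_cancel_left]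
  have e1 : rootsIn t (S.el x) (S.el x) = D.cnt r r := by
    rw [← rootsIn_conj t (S.el x) (S.el x) (S.el g)⁻¹, hgt, inv_inv, hgr, S.roots_eq h hC hr hr]
  have e2 : rootsIn t (S.el x) t = D.cnt r 64 := by
    rw [← rootsIn_conj t (S.el x) t (S.el g)⁻¹, hgt, inv_inv, hgr, ← S.roots_eq h hC hr (by norm_num : 64 < 21504), ht]
  refine ⟨S.el g, r, hr, S.el_comm g, hgr, ?_, fun he => ?_, fun he => ?_⟩
  · rw [e1, e2]
    obtain ⟨-, hc⟩ := hcnt
    split_ifs at hc with hh
    · exact of_decide_eq_true hc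
    · exact (of_decide_eq_true hc).le
  · rw [he] at hE
    simpa using hE.symm
  · rw [he] at hE
    have hne : ¬ r = ex := by simpa using hE.symm
    obtain ⟨-, hc⟩ := hcnt
    rw [if_neg (by simpa using hne)] at hc
    rw [e1, e2]
    exact of_decide_eq_true hc

/-- A conjugate of the involution in its centraliser lies in the distinguished class. -/
theorem Sys.conj_inE (h : D.OK) (hC : Nat.card (Subgroup.centralizer ({t} : Set G)) = 21504)
    (hev : (S.ev 64 : G) = t) {reps conj : List ℕ} {ex : ℕ} {inE : ℕ → Bool}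
    (hcl : D.okClass reps conj ex inE = true) (hco : D.okCount reps ex = true) (ht : orderOf t = 2)
    {u : G} (hu : IsConj t u) (hut : Commute u t) (hne : u ≠ t) :
    ∃ x g, x < 21504 ∧ S.el x = u ∧ D.mulC x x = 0 ∧ x ≠ 0 ∧ x ≠ 64 ∧ inE x = true ∧
      g⁻¹ * u * g = S.el ex := by
  obtain ⟨k, rfl⟩ := isConj_iff.1 hu
  have ht2 : t * t = 1 := by rw [← pow_two, ← ht, pow_orderOf_eq_one]
  have ht1 : t ≠ 1 := fun e => by rw [e, orderOf_one] at ht; norm_num at ht
  have h64 : S.el 64 = t := by rw [S.el_code h (by norm_num), hev]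
  have hone : S.el 0 = 1 := by rw [S.el_code h (by norm_num), S.ev_zero]; rfl
  have key : ∀ v : G, v * v = 1 → v ≠ 1 → v ≠ t → Commute v t → ∃ x, x < 21504 ∧ S.el x = v ∧
      D.mulC x x = 0 ∧ x ≠ 0 ∧ x ≠ 64 := by
    intro v hv h1 h2 hc
    obtain ⟨x, hx, rfl⟩ := S.el_surj h hC hc
    refine ⟨x, hx, rfl, S.el_inj h (S.mulC_lt h hx hx) (by norm_num) ?_, fun e => h1 (e ▸ hone),
      fun e => h2 (e ▸ h64)⟩
    rw [← S.el_mul h hx hx, hv, hone]
  have hsq : ∀ k : G, k * t * k⁻¹ * (k * t * k⁻¹) = 1 := fun k => by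
    rw [show k * t * k⁻¹ * (k * t * k⁻¹) = k * (t * t) * k⁻¹ by group, ht2, mul_one, mul_inv_cancel]
  have hn1 : ∀ k : G, k * t * k⁻¹ ≠ 1 := fun k e => ht1 (conj_eq_one_iff.1 e)
  set w := k⁻¹ * t * k with hw
  have hwk : k * w * k⁻¹ = t := by rw [hw]; group
  have hwt : Commute w t := by
    rw [← Commute.conj_iff k, hwk]; exact hut.symm
  have hwne : w ≠ t := fun e => hne (by rw [e] at hwk; exact hwk)
  obtain ⟨x, hx, hxu, hx2, hx0, hx64⟩ := key _ (hsq k) (hn1 k) hne hut
  obtain ⟨y, hy, hyw, hy2, hy0, hy64⟩ := key w (by simpa [hw] using hsq k⁻¹) (by simpa [hw] using hn1 k⁻¹) hwne hwt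
  obtain ⟨g, r, -, -, hgr, -, hin, hout⟩ := S.invol_data h hC hev hcl hco hx hx2 hx0 hx64
  obtain ⟨-, -, -, -, -, hle, -, -⟩ := S.invol_data h hC hev hcl hco hy hy2 hy0 hy64
  rw [hxu] at hgr hout
  rw [hyw] at hle
  refine ⟨x, g, hx, hxu, hx2, hx0, hx64, ?_⟩
  rcases Bool.eq_false_or_eq_true (inE x) with e | e
  · exact ⟨e, by rw [hgr, hin e]⟩
  · exfalso
    have h1 := hout e
    have e1 : rootsIn t (k * t * k⁻¹) (k * t * k⁻¹) = rootsIn t w t := by
      conv_lhs => rw [rootsIn_comm]; arg 2; rw [← hwk]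
      rw [rootsIn_conj]
    have e2 : rootsIn t (k * t * k⁻¹) t = rootsIn t w w := by
      conv_lhs => rw [rootsIn_comm]; arg 2; rw [← hwk]
      conv_lhs => arg 3; rw [← hwk]
      rw [rootsIn_conj]
    omega

end Coded

theorem exists_conj_commuting [Finite G] [IsSimpleGroup G] {t : G} (ht : orderOf t = 2)
    (hG : Nat.card G = 4030387200) (hC : Nat.card (Subgroup.centralizer ({t} : Set G)) = 21504) :
    ∃ u : G, IsConj t u ∧ Commute u t ∧ u ≠ t := by
  by_contra hno
  push Not at hno
  have hiso : Cfsg.IsIsolatedInvolution t :=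
    ⟨ht, fun g hg => hno _ (isConj_iff.2 ⟨g, rfl⟩) hg.symm⟩
  have hO : oddCore G = ⊥ := CentFour.oddCore_bot (by rw [hG]; norm_num)
  have htop : Subgroup.centralizer ({t} : Set G) = ⊤ := by
    refine (Subgroup.eq_top_iff' _).2 fun g => Subgroup.mem_centralizer_singleton_iff.2 ?_
    have h := Char.zStar_isolated hiso g
    rw [hO, Subgroup.mem_bot, mul_inv_eq_one, mul_inv_eq_iff_eq_mul] at h
    exact h.symm
  rw [htop, Subgroup.card_top, hG] at hC
  norm_num at hC

/-- the group acts on a class by conjugation -/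
@[reducible] def classAct (t : G) (E : Subgroup G) : MulAction E {v : G // IsConj t v} where
  smul e v := ⟨(e : G) * v * (e : G)⁻¹, v.2.trans (isConj_iff.2 ⟨e, rfl⟩)⟩
  one_smul v := Subtype.ext (show ((1 : E) : G) * v * ((1 : E) : G)⁻¹ = v by simp)
  mul_smul a b v := Subtype.ext
    (show ((a * b : E) : G) * v * ((a * b : E) : G)⁻¹ = (a : G) * ((b : G) * v * (b : G)⁻¹) * (a : G)⁻¹ by
      simp [mul_assoc])

/-- An elementary group of order sixteen cannot be the trace of the class. -/
theorem class_trace_false [Finite G] {t : G} (E : Subgroup G) (hE : Nat.card E = 16)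
    (hab : ∀ a ∈ E, ∀ b ∈ E, a * b = b * a) (hG : Nat.card G = 4030387200)
    (hC : Nat.card (Subgroup.centralizer ({t} : Set G)) = 21504)
    (hX : ∀ v : G, (IsConj t v ∧ Commute v t) ↔ (v ∈ E ∧ v ≠ 1)) : False := by
  classical
  have := Fintype.ofFinite G
  letI := classAct t E
  have hΩ : Nat.card {v : G // IsConj t v} = 187425 := by
    have h := Char.card_conjClass_mul_centralizer t
    rw [hC, hG] at h
    omega
  have hfix : ∀ e : E, e ≠ 1 → Fintype.card (MulAction.fixedBy {v : G // IsConj t v} e) = 15 := by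
    intro e he
    have he1 : (e : G) ≠ 1 := fun h => he (Subtype.ext h)
    obtain ⟨k, hk⟩ := isConj_iff.1 (((hX e).2 ⟨e.2, he1⟩).1)
    set A := {v : G | IsConj t v ∧ Commute v (e : G)} with hA
    set B := {v : G | v ∈ E ∧ v ≠ 1} with hB
    have hsub : B ⊆ A := fun v hv => ⟨((hX v).2 hv).1, hab v hv.1 e e.2⟩
    have hcard : A.ncard = B.ncard := by
      have : A = (fun v => k * v * k⁻¹) '' B := by
        ext v
        simp only [hA, hB, Set.mem_setOf_eq, Set.mem_image]
        constructor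
        · rintro ⟨h1, h2⟩
          refine ⟨k⁻¹ * v * k, (hX _).1 ⟨h1.trans (isConj_iff.2 ⟨k⁻¹, by group⟩), ?_⟩, by group⟩
          rw [← Commute.conj_iff k, hk, show k * (k⁻¹ * v * k) * k⁻¹ = v by group]
          exact h2
        · rintro ⟨w, hw, rfl⟩
          obtain ⟨h1, h2⟩ := (hX w).2 hw
          exact ⟨h1.trans (isConj_iff.2 ⟨k, rfl⟩), hk ▸ (Commute.conj_iff k).2 h2⟩
      rw [this, Set.ncard_image_of_injective _ fun a b h => by simpa using h]
    have hAB : A = B := (Set.eq_of_subset_of_ncard_le hsub hcard.le).symm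
    have hB15 : B.ncard = 15 := by
      have : B = (E : Set G) \ {1} := by ext v; simp [hB]
      rw [this, Set.ncard_diff_singleton_of_mem E.one_mem, ← Nat.card_coe_set_eq]
      simp [← Nat.card_eq_fintype_card, hE]
    rw [← hB15, ← Nat.card_eq_fintype_card, ← Nat.card_coe_set_eq]
    refine Nat.card_congr
      { toFun := fun v => ⟨v.1.1, ?_⟩
        invFun := fun v => ⟨⟨v.1, ((hX v.1).2 v.2).1⟩, ?_⟩
        left_inv := fun v => rfl
        right_inv := fun v => rfl }
    · rw [← hAB]
      have hv : (e : G) * v.1.1 * (e : G)⁻¹ = v.1.1 := congrArg Subtype.val v.2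
      exact ⟨v.1.2, (mul_inv_eq_iff_eq_mul.1 hv).symm⟩
    · show e • _ = _
      refine Subtype.ext ?_
      show (e : G) * v.1 * (e : G)⁻¹ = v.1
      rw [hab _ e.2 _ v.2.1, mul_inv_cancel_right]
  have h1 : Nat.card (MulAction.fixedBy {v : G // IsConj t v} (1 : E)) = 187425 :=
    (Nat.card_congr (Equiv.subtypeUnivEquiv fun v => one_smul E v)).trans hΩ
  have h := MulAction.sum_card_fixedBy_eq_card_orbits_mul_card_group E {v : G // IsConj t v}
  rw [← Finset.sum_erase_add Finset.univ _ (Finset.mem_univ (1 : E)),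
    Finset.sum_congr rfl fun e he => hfix e (Finset.ne_of_mem_erase he), Finset.sum_const,
    Finset.card_erase_of_mem (Finset.mem_univ _), Finset.card_univ, smul_eq_mul,
    ← Nat.card_eq_fintype_card (α := E), hE, ← Nat.card_eq_fintype_card,
    h1] at h
  omega

theorem kill_ok (m : Fin 3) (ε : Bool) : (dat m ε).OK := by
  refine ⟨okQ_all m ε, okV_all m ε, okTree_all m ε, okRange_all m ε, okSteps_all m ε, ?_, okSig_all m ε⟩
  fin_cases m <;> cases ε
  exacts [okF_0a, okF_0b, okF_1a, okF_1b, okF_2a, okF_2b]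

theorem false_of_exceptional [Finite G] [IsSimpleGroup G] {t : G} (ht : orderOf t = 2)
    (hG : Nat.card G = 4030387200) {D : Dat} (h : D.OK) (S : Sys (Subgroup.centralizer ({t} : Set G)) D)
    (hC : Nat.card (Subgroup.centralizer ({t} : Set G)) = 21504) (hev : (S.ev 64 : G) = t)
    {reps conj : List ℕ} {ex : ℕ} {inE : ℕ → Bool}
    (hlt : ∀ x, inE x = true → x < 128) (hcl : D.okClass reps conj ex inE = true) (hco : D.okCount reps ex = true)
    (hok : okE inE = true) : False := by
  classical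
  simp only [okE, Bool.and_eq_true, List.all_eq_true, List.mem_range, Bool.or_eq_true, Bool.not_eq_true',
    beq_iff_eq] at hok
  obtain ⟨⟨⟨hE0, hE64⟩, hop⟩, hcard⟩ := hok
  have hop' : ∀ {a b}, inE a = true → inE b = true → inE (qm a b) = true ∧ qm a b = qm b a ∧ qm a a = 0 := by
    intro a b ha hb
    rcases hop a (hlt a ha) b (hlt b hb) with (e | e) | e
    · simp [ha] at e
    · simp [hb] at e
    · exact ⟨e.1.1, e.1.2, e.2⟩
  have hmul : ∀ {a b}, inE a = true → inE b = true → S.el a * S.el b = S.el (qm a b) := by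
    intro a b ha hb
    rw [S.el_code h (hlt a ha), S.el_code h (hlt b hb), S.el_code h (qm_lt _ _),
      ← S.hmul a b (hlt a ha) (hlt b hb)]
    rfl
  have hone : S.el 0 = 1 := by rw [S.el_code h (by norm_num), S.ev_zero]; rfl
  have h64 : S.el 64 = t := by rw [S.el_code h (by norm_num), hev]
  let E : Subgroup G :=
    { carrier := {v | ∃ a, inE a = true ∧ S.el a = v}
      one_mem' := ⟨0, hE0, hone⟩
      mul_mem' := by
        rintro _ _ ⟨a, ha, rfl⟩ ⟨b, hb, rfl⟩
        exact ⟨_, (hop' ha hb).1, (hmul ha hb).symm⟩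
      inv_mem' := by
        rintro _ ⟨a, ha, rfl⟩
        exact ⟨a, ha, eq_inv_of_mul_eq_one_left (by rw [hmul ha ha, (hop' ha ha).2.2, hone])⟩ }
  have hcardE : Nat.card E = 16 := by
    let f : {a : ℕ // a < 128 ∧ inE a = true} → E := fun a => ⟨S.el a, a, a.2.2, rfl⟩
    have hf : Function.Bijective f := by
      refine ⟨fun a b e => Subtype.ext (S.el_inj h (by omega) (by omega) (congrArg (fun z => z.1) e :)), ?_⟩
      rintro ⟨_, a, ha, rfl⟩
      exact ⟨⟨a, hlt a ha, ha⟩, rfl⟩
    rw [← Nat.card_congr (Equiv.ofBijective f hf), card_sub_countP]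
    exact hcard
  have hab : ∀ a ∈ E, ∀ b ∈ E, a * b = b * a := by
    rintro _ ⟨a, ha, rfl⟩ _ ⟨b, hb, rfl⟩
    rw [hmul ha hb, hmul hb ha, (hop' ha hb).2.1]
  obtain ⟨u, hu, hut, hne⟩ := exists_conj_commuting ht hG hC
  obtain ⟨-, g, -, -, -, -, -, -, hgu⟩ := S.conj_inE h hC hev hcl hco ht hu hut hne
  have hex : IsConj t (S.el ex) := hu.trans (isConj_iff.2 ⟨g⁻¹, by rw [inv_inv, hgu]⟩)
  refine class_trace_false E hcardE hab hG hC fun v => ⟨fun ⟨hv, hvt⟩ => ?_, ?_⟩
  · refine ⟨?_, fun e => ?_⟩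
    · by_cases hvne : v = t
      · exact ⟨64, hE64, h64.trans hvne.symm⟩
      · obtain ⟨x, -, -, hx, -, -, -, he, -⟩ := S.conj_inE h hC hev hcl hco ht hv hvt hvne
        exact ⟨x, he, hx⟩
    · rw [e, isConj_one_left] at hv
      rw [hv, orderOf_one] at ht
      norm_num at ht
  · rintro ⟨⟨a, ha, rfl⟩, ha1⟩
    refine ⟨?_, S.el_comm a⟩
    by_cases ha64 : a = 64
    · rw [ha64, h64]
    · have hsq : D.mulC a a = 0 := S.el_inj h (S.mulC_lt h (by have := hlt a ha; omega)
        (by have := hlt a ha; omega)) (by norm_num)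
        (by rw [← S.el_mul h (by have := hlt a ha; omega) (by have := hlt a ha; omega), hmul ha ha,
          (hop' ha ha).2.2])
      obtain ⟨g', r, -, -, hgr, -, hin, -⟩ := S.invol_data h hC hev hcl hco (by have := hlt a ha; omega) hsq
        (fun e => ha1 (by rw [e, hone])) ha64
      refine hex.trans (isConj_iff.2 ⟨g', ?_⟩)
      rw [← hin ha, ← hgr]
      group

theorem false_of_counts [Finite G] [IsSimpleGroup G] {t : G} (ht : orderOf t = 2)
    (hG : Nat.card G = 4030387200) {D : Dat} (h : D.OK) (S : Sys (Subgroup.centralizer ({t} : Set G)) D)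
    (hC : Nat.card (Subgroup.centralizer ({t} : Set G)) = 21504) (hev : (S.ev 64 : G) = t)
    {reps conj : List ℕ} {ex : ℕ} {inE : ℕ → Bool}
    (hin : ∀ x, inE x = true → x = 0 ∨ x = 64) (hcl : D.okClass reps conj ex inE = true)
    (hco : D.okCount reps ex = true) : False := by
  obtain ⟨u, hu, hut, hne⟩ := exists_conj_commuting ht hG hC
  obtain ⟨x, g, -, -, -, h0, h64, he, -⟩ := S.conj_inE h hC hev hcl hco ht hu hut hne
  rcases hin x he with e | e
  exacts [h0 e, h64 e]

/-- The centraliser is the one of the Held group. -/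
theorem case_eq [Finite G] [IsSimpleGroup G] (t : G) (ht : orderOf t = 2) (hG : Nat.card G = 4030387200)
    (_htwo : ∃ x y : G, orderOf x = 2 ∧ orderOf y = 2 ∧ ¬ IsConj x y ∧
      ∀ z : G, orderOf z = 2 → IsConj z x ∨ IsConj z y)
    {m : Fin 3} {ε : Bool} (S : Sys (Subgroup.centralizer ({t} : Set G)) (dat m ε))
    (hC : Nat.card (Subgroup.centralizer ({t} : Set G)) = 21504) (hev : (S.ev 64 : G) = t) :
    m = 0 ∧ ε = false := by
  have hok := kill_ok m ε
  have hpair : ∀ x : ℕ, ((x == 0) || (x == 64)) = true → x = 0 ∨ x = 64 := fun x h => by simpa using h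
  fin_cases m <;> cases ε
  · exact ⟨rfl, rfl⟩
  · exact (false_of_counts ht hG hok S hC hev hpair okClass_0b okCount_0b).elim
  · exact (false_of_exceptional ht hG hok S hC hev (fun x hx => by
      simp only [inE, Bool.and_eq_true, decide_eq_true_eq] at hx; exact hx.1) okClass_1a okCount_1a okE_1a).elim
  · exact (false_of_counts ht hG hok S hC hev hpair okClass_1b okCount_1b).elim
  · exact (false_of_exceptional ht hG hok S hC hev (fun x hx => by
      simp only [inE, Bool.and_eq_true, decide_eq_true_eq] at hx; exact hx.1) okClass_2a okCount_2a okE_2a).elim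
  · exact (false_of_counts ht hG hok S hC hev hpair okClass_2b okCount_2b).elim

end Cfsg.Agent.Spor.HeldCent
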