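import Cfsg.Agent.Lib.Spor.HeldCent.Code

/-!
Tests on the involutions of the coded centraliser: classes, and numbers of square roots in their centralisers.
-/

set_option autoImplicit false

namespace Cfsg.Agent.Spor.HeldCent

/-- class representatives, one case needing none -/
def repsOf : Fin 3 → Bool → List ℕ
  | 0, false => []
  | 0, true => reps01
  | 1, false => reps10
  | 1, true => reps11
  | 2, false => reps20
  | 2, true => reps21

/-- conjugators to the representatives -/
def conjOf : Fin 3 → Bool → List ℕ
  | 0, false => []
  | 0, true => conjT01
  | 1, false => conjT10
  | 1, true => conjT11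
  | 2, false => conjT20
  | 2, true => conjT21

/-- the representative of the class that is not decided by counting, or the central code -/
def exRep : Fin 3 → Bool → ℕ
  | 1, false => 1
  | 2, false => 8
  | _, _ => 64

/-- the elementary abelian group holding that class -/
def inE : Fin 3 → Bool → ℕ → Bool
  | 1, false => fun x => decide (x < 128) && (x / 8 % 8 == 0)
  | 2, false => fun x => decide (x < 128) && (x % 8 == 0)
  | _, _ => fun x => x == 0 || x == 64

namespace Dat

variable (D : Dat)

/-- square roots of a code among the codes commuting with a given one -/
def cnt (r v : ℕ) : ℕ :=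
  ((List.range 168).map fun l =>
    if D.lm l l == v / 128 then
      (List.range 128).countP fun q =>
        (D.mulC (l * 128 + q) (l * 128 + q) == v) && (D.mulC (l * 128 + q) r == D.mulC r (l * 128 + q))
    else 0).sum

/-- one involution is conjugate to a representative -/
def okInvol (reps conj : List ℕ) (ex : ℕ) (inE : ℕ → Bool) (x : ℕ) : Bool :=
  let w := conj.getD (x / 128) 0
  let g := byteAt w (4 * (x % 128)) + 256 * byteAt w (4 * (x % 128) + 1)
  let i := byteAt w (4 * (x % 128) + 2)
  decide (i < reps.length) && decide (g < 21504) && (D.mulC x g == D.mulC g (reps.getD i 0)) &&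
    (inE x == (reps.getD i 0 == ex))

/-- all involutions are conjugate to representatives -/
def okClass (reps conj : List ℕ) (ex : ℕ) (inE : ℕ → Bool) : Bool :=
  (List.range 168).all fun l =>
    !(D.lm l l == 0) || ((List.range 128).all fun q =>
      let x := l * 128 + q
      !(D.mulC x x == 0) || x == 0 || x == 64 || D.okInvol reps conj ex inE x)

/-- the representatives have fewer square roots than the central involution has in their centralisers -/
def okCount (reps : List ℕ) (ex : ℕ) : Bool :=
  reps.all fun r =>
    r == 64 || (decide (r < 21504) &&
      (if r == ex then decide (D.cnt r r ≤ D.cnt r 64) else decide (D.cnt r r < D.cnt r 64)))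

end Dat

/-- the distinguished codes form an elementary abelian group -/
def okE (inE : ℕ → Bool) : Bool :=
  inE 0 && inE 64 &&
    ((List.range 128).all fun a => (List.range 128).all fun b =>
      !(inE a) || !(inE b) || (inE (qm a b) && (qm a b == qm b a) && (qm a a == 0))) &&
    ((List.range 128).countP inE == 16)

end Cfsg.Agent.Spor.HeldCent
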