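import Cfsg.Agent.Lib.Spor.HeldCent.Coord

/-!
The centraliser of a transvection in the special linear group of degree five over two elements has coordinates
and relations of the first case.
-/

set_option autoImplicit false
set_option maxRecDepth 100000
set_option maxHeartbeats 1000000

namespace Cfsg.Agent.Spor.HeldCent

namespace Model

/-- matrices of degree five given by rows as bit masks -/
abbrev Rows := ℕ × ℕ × ℕ × ℕ × ℕ

/-- one term of a row -/
def term (a j b : ℕ) : ℕ := if a.testBit j then b else 0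

/-- row of a product -/
def rowMul (a : ℕ) (B : Rows) : ℕ :=
  term a 0 B.1 ^^^ term a 1 B.2.1 ^^^ term a 2 B.2.2.1 ^^^ term a 3 B.2.2.2.1 ^^^ term a 4 B.2.2.2.2

/-- product -/
def mm (A B : Rows) : Rows :=
  (rowMul A.1 B, rowMul A.2.1 B, rowMul A.2.2.1 B, rowMul A.2.2.2.1 B, rowMul A.2.2.2.2 B)

/-- identity -/
def oneR : Rows := (1, 2, 4, 8, 16)

/-- the matrix -/
def toM (A : Rows) : Matrix (Fin 5) (Fin 5) (ZMod 2) :=
  Matrix.of fun i k => if (![A.1, A.2.1, A.2.2.1, A.2.2.2.1, A.2.2.2.2] i).testBit k.val then 1 else 0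

theorem five : ∀ a0 a1 a2 a3 a4 b0 b1 b2 b3 b4 : Bool,
    (if (xor (xor (xor (xor (a0 && b0) (a1 && b1)) (a2 && b2)) (a3 && b3)) (a4 && b4)) then (1 : ZMod 2) else 0) =
      (if a0 then 1 else 0) * (if b0 then 1 else 0) + (if a1 then 1 else 0) * (if b1 then 1 else 0) +
      (if a2 then 1 else 0) * (if b2 then 1 else 0) + (if a3 then 1 else 0) * (if b3 then 1 else 0) +
      (if a4 then 1 else 0) * (if b4 then 1 else 0) := by
  decide +kernel

theorem term_bit (a j b k : ℕ) : (term a j b).testBit k = (a.testBit j && b.testBit k) := by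
  unfold term; cases a.testBit j <;> simp

theorem toM_mul (A B : Rows) : toM (mm A B) = toM A * toM B := by
  ext i k
  rw [Matrix.mul_apply, Fin.sum_univ_five]
  have key : ∀ a : ℕ, (if (rowMul a B).testBit k.val then (1 : ZMod 2) else 0) =
      (if a.testBit 0 then 1 else 0) * (if B.1.testBit k.val then 1 else 0) +
      (if a.testBit 1 then 1 else 0) * (if B.2.1.testBit k.val then 1 else 0) +
      (if a.testBit 2 then 1 else 0) * (if B.2.2.1.testBit k.val then 1 else 0) +
      (if a.testBit 3 then 1 else 0) * (if B.2.2.2.1.testBit k.val then 1 else 0) +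
      (if a.testBit 4 then 1 else 0) * (if B.2.2.2.2.testBit k.val then 1 else 0) := fun a => by
    simp only [rowMul, Nat.testBit_xor, term_bit]
    exact five _ _ _ _ _ _ _ _ _ _
  fin_cases i <;> exact key _

theorem toM_one : toM oneR = 1 := by
  ext i k
  fin_cases i <;> fin_cases k <;> decide +kernel

theorem det_one {A B : Rows} (h : mm A B = oneR) : (toM A).det = 1 := by
  have e : (toM A).det * (toM B).det = 1 := by rw [← Matrix.det_mul, ← toM_mul, h, toM_one, Matrix.det_one]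
  have key : ∀ a b : ZMod 2, a * b = 1 → a = 1 := by decide
  exact key _ _ e

/-- the code of an element of the extraspecial group as rows -/
def enc (q : ℕ) : Rows :=
  let f := q / 8 % 8
  let c0 := ((if f.testBit 0 then 1 else 0) ^^^ (if f.testBit 1 then 1 else 0) ^^^ (if f.testBit 2 then 1 else 0) : ℕ)
  let c1 := ((if f.testBit 1 then 1 else 0) ^^^ (if f.testBit 2 then 1 else 0) : ℕ)
  let c2 := (if f.testBit 2 then 1 else 0 : ℕ)
  (1 + 2 * ((q % 2 * c0 + q / 2 % 2 * c1 + q / 4 % 2 * c2 + q / 64) % 2) + 4 * (q % 8), 2, 4 + 2 * c0, 8 + 2 * c1, 16 + 2 * c2)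

/-- reading off the code -/
def dec (M : Matrix (Fin 5) (Fin 5) (ZMod 2)) : Fin 7 → ZMod 2 :=
  ![M 0 2, M 0 3, M 0 4, M 2 1, M 3 1, M 4 1, M 0 1]

theorem enc_mul : ∀ a : Fin 128, ∀ b : Fin 128, mm (enc a) (enc b) = enc (qm a b) := by decide +kernel

theorem enc_inv : ∀ a : Fin 128, mm (enc a) (enc (qi a)) = oneR := by decide +kernel

theorem toM_enc_inj : ∀ a : Fin 128, ∀ b : Fin 128, (∀ i, dec (toM (enc a)) i = dec (toM (enc b)) i) → a = b := by
  decide +kernel

/-- the rows of the transvection -/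
def sR : Rows := (3, 2, 4, 8, 16)

theorem sR_eq : toM sR = Matrix.transvection 0 1 1 := by
  ext i k
  fin_cases i <;> fin_cases k <;> decide +kernel

/-- the two generators -/
def gR (x : Bool) : Rows := if x then (1, 2, 20, 4, 8) else (1, 2, 4, 8, 20)

/-- their inverses -/
def gI (x : Bool) : Rows := if x then (1, 2, 8, 16, 12) else (1, 2, 4, 8, 20)

theorem g_facts : ∀ x : Bool, mm (gR x) (gI x) = oneR ∧ mm (gI x) (gR x) = oneR ∧ mm (gR x) sR = mm sR (gR x) ∧
    ∀ i : Fin 7, mm (gR x) (enc (2 ^ i.val)) = mm (enc ((dat 0 false).imgOf x i)) (gR x) := by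
  decide +kernel

theorem enc_comm : ∀ a : Fin 128, mm (enc a) sR = mm sR (enc a) := by decide +kernel

theorem img_lt : ∀ x : Bool, ∀ i : Fin 7, (dat 0 false).imgOf x i < 128 := by decide +kernel

/-- product of the generators along a word -/
def wordR : List Bool → Rows
  | [] => oneR
  | x :: W => mm (gR x) (wordR W)

theorem rels_ok : ∀ r ∈ (dat 0 false).rels, r.2 < 128 ∧ wordR r.1 = enc r.2 := by decide +kernel

end Model

open Model in
theorem exists_sys_model (s : Matrix.SpecialLinearGroup (Fin 5) (ZMod 2))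
    (hs : (s : Matrix (Fin 5) (Fin 5) (ZMod 2)) = Matrix.transvection 0 1 1) :
    Nonempty (Sys (Subgroup.centralizer ({s} : Set (Matrix.SpecialLinearGroup (Fin 5) (ZMod 2)))) (dat 0 false)) := by
  have hsR : (s : Matrix (Fin 5) (Fin 5) (ZMod 2)) = toM sR := hs.trans sR_eq.symm
  let mk : ∀ A B : Rows, mm A B = oneR → mm A sR = mm sR A →
      Subgroup.centralizer ({s} : Set (Matrix.SpecialLinearGroup (Fin 5) (ZMod 2))) := fun A B h hc =>
    ⟨⟨toM A, det_one h⟩, Subgroup.mem_centralizer_singleton_iff.2 (Subtype.ext (by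
      show toM A * (s : Matrix (Fin 5) (Fin 5) (ZMod 2)) = (s : Matrix (Fin 5) (Fin 5) (ZMod 2)) * toM A
      rw [hsR, ← toM_mul, ← toM_mul, hc]))⟩
  let ev : ℕ → Subgroup.centralizer ({s} : Set (Matrix.SpecialLinearGroup (Fin 5) (ZMod 2))) := fun q =>
    mk (enc ((⟨q % 128, Nat.mod_lt _ (by norm_num)⟩ : Fin 128) : ℕ)) _ (enc_inv _) (enc_comm _)
  let gx : Bool → Subgroup.centralizer ({s} : Set (Matrix.SpecialLinearGroup (Fin 5) (ZMod 2))) := fun x =>
    mk (gR x) (gI x) (g_facts x).1 (g_facts x).2.2.1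
  have hev : ∀ q, q < 128 → ((ev q : Matrix.SpecialLinearGroup (Fin 5) (ZMod 2)) : Matrix (Fin 5) (Fin 5) (ZMod 2)) =
      toM (enc q) := fun q hq => by
    show toM (enc (q % 128)) = _
    rw [Nat.mod_eq_of_lt hq]
  have hext : ∀ a b : Subgroup.centralizer ({s} : Set (Matrix.SpecialLinearGroup (Fin 5) (ZMod 2))),
      ((a : Matrix.SpecialLinearGroup (Fin 5) (ZMod 2)) : Matrix (Fin 5) (Fin 5) (ZMod 2)) =
        ((b : Matrix.SpecialLinearGroup (Fin 5) (ZMod 2)) : Matrix (Fin 5) (Fin 5) (ZMod 2)) → a = b :=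
    fun a b h => Subtype.ext (Subtype.ext h)
  have hword : ∀ W : List Bool, (((W.map gx).prod : Matrix.SpecialLinearGroup (Fin 5) (ZMod 2)) :
      Matrix (Fin 5) (Fin 5) (ZMod 2)) = toM (wordR W) := by
    intro W
    induction W with
    | nil => simp [wordR, toM_one]
    | cons x W ih =>
      rw [List.map_cons, List.prod_cons, Subgroup.coe_mul, Matrix.SpecialLinearGroup.coe_mul, ih]
      show toM (gR x) * _ = _
      rw [wordR, toM_mul]
  refine ⟨{ ev := ev, hmul := ?_, inj := ?_, gx := gx, conj := ?_, rel := ?_ }⟩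
  · intro a b ha hb
    refine hext _ _ ?_
    rw [Subgroup.coe_mul, Matrix.SpecialLinearGroup.coe_mul, hev a ha, hev b hb, hev _ (qm_lt a b), ← toM_mul,
      enc_mul ⟨a, ha⟩ ⟨b, hb⟩]
  · intro a b ha hb e
    have h := congrArg (fun c : Subgroup.centralizer ({s} : Set (Matrix.SpecialLinearGroup (Fin 5) (ZMod 2))) =>
      ((c : Matrix.SpecialLinearGroup (Fin 5) (ZMod 2)) : Matrix (Fin 5) (Fin 5) (ZMod 2))) e
    simp only [hev a ha, hev b hb] at h
    exact congrArg Fin.val (toM_enc_inj ⟨a, ha⟩ ⟨b, hb⟩ fun i => by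
      show dec (toM (enc a)) i = dec (toM (enc b)) i
      rw [h])
  · intro x i hi
    refine mul_inv_eq_iff_eq_mul.2 (hext _ _ ?_)
    rw [Subgroup.coe_mul, Matrix.SpecialLinearGroup.coe_mul, Subgroup.coe_mul, Matrix.SpecialLinearGroup.coe_mul,
      hev _ (by calc 2 ^ i ≤ 2 ^ 6 := Nat.pow_le_pow_right (by norm_num) (by omega)
                   _ < 128 := by norm_num),
      hev _ (img_lt x ⟨i, hi⟩)]
    show toM (gR x) * _ = _ * toM (gR x)
    rw [← toM_mul, ← toM_mul, (g_facts x).2.2.2 ⟨i, hi⟩]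
  · intro r hr
    refine hext _ _ ?_
    rw [hword, hev _ (rels_ok r hr).1, (rels_ok r hr).2]

end Cfsg.Agent.Spor.HeldCent
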