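import Mathlib
import Cfsg.Agent.Lib.Spor.HeldCent.Code

/-!
All isometries of the six dimensional space which are involutions and whose product with the element of order
seven has order three: the twenty-one tabulated ones.
-/

set_option autoImplicit false
set_option maxRecDepth 1000000
set_option maxHeartbeats 4000000
set_option Elab.async false

namespace Cfsg.Agent.Spor.HeldCent

/-- singular vectors -/
def singMask : ℕ := 11893939997513438719

/-- vectors not orthogonal to a vector -/
def adjTab : List ℕ := [0, 18374687574905061120, 281474976645120, 18374966859414961920, 18446744069414584320, 72056494543077120, 18446462603027742720, 71777218556133120, 12297829382473034410, 6172933524171347370, 12297735557480819370, 6172840429334713770, 6148914692668172970, 12273810550958675370, 6149008514797120170, 12273903642954323370, 7378697629483820646, 11053635144464832870, 7378753924479149670, 11053691001366813030, 11068046443366737510, 7393108928392436070, 11067990150089369190, 7393053073195047270, 14757395258967641292, 3732582714024604620, 14757226373981654220, 3732415143318664140, 3689348817318890700, 14714161362241795020, 3689517697150995660,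 14714328927833961420, 10851025925711500950, 7608434000728254870, 10850976253656798870, 7608384715226507670, 7595718148755986070, 10838310073733310870, 7595767819294840470, 10838359357731006870, 4340410370284600380, 14068186145234338620, 4340559386448706620, 14068334001739580220, 14106333701151145020, 4378557926219170620, 14106184689534581820, 4378410074226082620, 17361641481138401520, 1148681856222171120, 17361393120864891120, 1148435428713435120, 1085102596360827120, 17298062221247451120, 1085350949055099120, 17298308641235931120, 6510615555426900570, 11914935430398977370, 6510698342184737370, 11915017572901889370, 11936128517019425370, 6531808642057217370, 11936045732788001370, 6531726502061057370]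

theorem sing_ok : ∀ v < 64, (singMask / 2 ^ v % 2 = 1 ↔ qm v v = 0) := by decide +kernel

theorem adj_ok : ∀ x < 64, adjTab.getD x 0 < 2 ^ 64 ∧ ∀ v < 64, adjTab.getD x 0 / 2 ^ v % 2 = cbit x v := by
  decide +kernel

/-- all the set bits satisfy a test -/
def allBits (p : ℕ → Bool) : ℕ → ℕ → ℕ → Bool
  | 0, b, m => (m % 2 == 0) || p b
  | d + 1, b, m => (m == 0) || (allBits p d b (m % 2 ^ 2 ^ d) && allBits p d (b + 2 ^ d) (m / 2 ^ 2 ^ d))

theorem allBits_spec (p : ℕ → Bool) : ∀ d b m, allBits p d b m = true → ∀ v < 2 ^ d, m / 2 ^ v % 2 = 1 → p (b + v) = true
  | 0, b, m, h, v, hv, hm => by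
    obtain rfl : v = 0 := by simpa using hv
    simp only [allBits, Bool.or_eq_true, beq_iff_eq] at h
    rw [pow_zero, Nat.div_one] at hm
    exact h.resolve_left (by omega)
  | d + 1, b, m, h, v, hv, hm => by
    simp only [allBits, Bool.or_eq_true, Bool.and_eq_true, beq_iff_eq] at h
    rcases h with h | ⟨h1, h2⟩
    · subst h; simp at hm
    · rcases lt_or_ge v (2 ^ d) with hlt | hge
      · refine allBits_spec p d b _ h1 v hlt ?_
        have hb : (m % 2 ^ 2 ^ d).testBit v = true := by
          rw [Nat.testBit_mod_two_pow]
          simp [hlt, Nat.testBit_eq_decide_div_mod_eq, hm]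
        simpa [Nat.testBit_eq_decide_div_mod_eq] using hb
      · have hp : 2 ^ (d + 1) = 2 ^ d + 2 ^ d := by rw [pow_succ]; omega
        have := allBits_spec p d (b + 2 ^ d) _ h2 (v - 2 ^ d) (by omega) ?_
        · rwa [show b + 2 ^ d + (v - 2 ^ d) = b + v by omega] at this
        · rw [Nat.div_div_eq_div_mul, ← pow_add, show 2 ^ d + (v - 2 ^ d) = v by omega]
          exact hm

/-- a candidate mask: orthogonality as prescribed -/
def restrict (m x : ℕ) (on : Bool) : ℕ :=
  if on then m &&& adjTab.getD x 0 else m ^^^ (m &&& adjTab.getD x 0)

/-- the linear map with given images -/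
def linM (A : List ℕ) (v : ℕ) : ℕ :=
  A.getD 0 0 * (v % 2) ^^^ A.getD 1 0 * (v / 2 % 2) ^^^ A.getD 2 0 * (v / 4 % 2) ^^^ A.getD 3 0 * (v / 8 % 2) ^^^
    A.getD 4 0 * (v / 16 % 2) ^^^ A.getD 5 0 * (v / 32 % 2)

/-- the element of order seven -/
def imgY : List ℕ := [2, 4, 3, 16, 32, 40]

/-- the test on complete candidates -/
def leafOK (A : List ℕ) : Bool :=
  !((linM A (linM A 1) == 1) && ((List.range 6).all fun i => linM A (linM A (2 ^ i)) == 2 ^ i) &&
    ((List.range 6).all fun i => linM A (linM imgY (linM A (linM imgY (linM A (linM imgY (2 ^ i)))))) == 2 ^ i)) ||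
    (solList.any fun s => s.1 == A)

/-- the search, in the order e0 f0 e1 f1 e2 f2 -/
def searchAt (a : ℕ) : Bool :=
    allBits (fun d =>
      allBits (fun b =>
        allBits (fun e =>
          allBits (fun c =>
            allBits (fun f => leafOK [a, b, c, d, e, f]) 6 0
              (restrict (restrict (restrict (restrict (restrict singMask a (cbit 32 1 == 1)) d (cbit 32 8 == 1)) b
                (cbit 32 2 == 1)) e (cbit 32 16 == 1)) c (cbit 32 4 == 1))) 6 0
            (restrict (restrict (restrict (restrict singMask a (cbit 4 1 == 1)) d (cbit 4 8 == 1)) b (cbit 4 2 == 1)) e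
              (cbit 4 16 == 1))) 6 0
          (restrict (restrict (restrict singMask a (cbit 16 1 == 1)) d (cbit 16 8 == 1)) b (cbit 16 2 == 1))) 6 0
        (restrict (restrict singMask a (cbit 2 1 == 1)) d (cbit 2 8 == 1))) 6 0
      (restrict singMask a (cbit 8 1 == 1))

/-- the first image is a nonzero singular vector -/
def part (i : ℕ) : Bool :=
  (List.range' (8 * i) 8).all fun a => (singMask / 2 ^ a % 2 == 0) || (a == 0) || searchAt a

theorem part0 : part 0 = true := by decide +kernel

theorem part1 : part 1 = true := by decide +kernel

theorem part2 : part 2 = true := by decide +kernel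

theorem part3 : part 3 = true := by decide +kernel

theorem part4 : part 4 = true := by decide +kernel

theorem part5 : part 5 = true := by decide +kernel

theorem part6 : part 6 = true := by decide +kernel

theorem part7 : part 7 = true := by decide +kernel

theorem searchAt_ok {a : ℕ} (ha : a < 64) (h0 : a ≠ 0) (hs : singMask / 2 ^ a % 2 = 1) : searchAt a = true := by
  have h : ∀ i < 8, part i = true := by
    intro i hi
    interval_cases i
    exacts [part0, part1, part2, part3, part4, part5, part6, part7]
  have h' := h (a / 8) (by omega)
  simp only [part, List.all_eq_true, List.mem_range'_1, Bool.or_eq_true, beq_iff_eq] at h'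
  exact ((h' a ⟨by omega, by omega⟩).resolve_left (by omega))

end Cfsg.Agent.Spor.HeldCent
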