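import Mathlib
import Cfsg.Agent.Lib.Spor.HeldCent.Frame
import Cfsg.Agent.Lib.Spor.HeldCent.Search
import Cfsg.Agent.Lib.Spor.HeldCent.Bar
import Cfsg.Agent.Lib.Spor.HeldCent.AllOK

/-!
Any group with the three defining properties is one of the six coded groups.
-/

set_option autoImplicit false
set_option maxRecDepth 1000000

namespace Cfsg.Agent.Spor.HeldCent

universe u

theorem qm_zero_low : ∀ c < 128, (qm c c = 0 ↔ qm (c % 64) (c % 64) = 0) ∧ qm (qi c) c = 0 ∧
    c = qm (c % 64) (64 * (c / 64)) := by decide +kernel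

theorem cbit_symm : ∀ a < 64, ∀ b < 64, cbit a b = cbit b a := by decide +kernel

theorem bits_split : ∀ v < 64, v = (1 * (v % 2)) ^^^ (2 * (v / 2 % 2)) ^^^ (4 * (v / 4 % 2)) ^^^ (8 * (v / 8 % 2)) ^^^
    (16 * (v / 16 % 2)) ^^^ (32 * (v / 32 % 2)) := by decide +kernel

theorem xor_lt64 : ∀ a < 64, ∀ b < 64, a ^^^ b < 64 := by decide +kernel

theorem imgY_low : ∀ i < 6, imgY.getD i 0 = imgY7.getD i 0 % 64 := by decide +kernel

theorem imgY7_gen : ∀ (m : Fin 3) (ε : Bool), ∀ i < 7,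
    (dat m ε).imgOf true i = imgY7.getD i 0 := by decide +kernel

theorem img_six : ∀ (m : Fin 3) (ε : Bool), (dat m ε).imgOf false 6 = 64 ∧ ∀ i < 7, (dat m ε).imgOf false i < 128 := by
  decide +kernel

theorem img_eps : ∀ (m : Fin 3), ∀ i < 7, (dat m true).imgOf false i = (dat m false).imgOf false i := by decide +kernel

/-- iterate the element of order seven -/
def iterY : ℕ → ℕ → ℕ
  | 0, v => v
  | n + 1, v => linM imgY (iterY n v)

theorem sol_rep : ∀ s ∈ solList, s.2.2 ≤ 7 ∧ ∃ m : Fin 3, ∀ i < 6,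
    iterY (7 - s.2.2) (linM s.1 (iterY s.2.2 (2 ^ i))) = (dat m false).imgOf false i % 64 := by decide +kernel

theorem sign_fix : ∀ (m : Fin 3), ∀ σ < 64, ∃ q < 64, ∀ i < 6,
    qm (qm q ((dat m false).imgOf false i % 64 + 64 * (σ / 2 ^ i % 2))) (qi q) = (dat m false).imgOf false i := by
  decide +kernel

namespace Dat

variable (D : Dat)

theorem e64_cases : D.e64 = 0 ∨ D.e64 = 64 := by unfold e64; split <;> simp

end Dat

theorem testBit_restrict {m x v : ℕ} {b : Bool} (hm : m.testBit v = true) (hx : (adjTab.getD x 0).testBit v = b) :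
    (restrict m x b).testBit v = true := by
  unfold restrict
  cases b <;> simp [hm, hx, -List.getD_eq_getElem?_getD]

theorem allBits_mem {p : ℕ → Bool} {m v : ℕ} (h : allBits p 6 0 m = true) (hv : v < 64) (hm : m.testBit v = true) :
    p v = true := by
  have := allBits_spec p 6 0 m h v hv ((div_mod_iff m v).2 hm)
  rwa [zero_add] at this

theorem adj_bit {x v : ℕ} (hx : x < 64) (hv : v < 64) {c : ℕ} (h : cbit x v = c) :
    (adjTab.getD x 0).testBit v = (c == 1) := by
  have e := (adj_ok x hx).2 v hv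
  rw [h] at e
  rw [Nat.testBit_eq_decide_div_mod_eq, e]
  rfl

namespace Ctx

variable {C : Type u} [Group C] {K : Ctx C} {y : C} (S : K.Coords y)

open Classical in
/-- the code of an element of the extraspecial group -/
noncomputable def Coords.code (u : C) : ℕ := if h : ∃ q < 128, S.ev q = u then h.choose else 0

theorem Coords.code_spec {u : C} (hu : u ∈ K.Q) : S.code u < 128 ∧ S.ev (S.code u) = u := by
  have h := S.surj u hu
  rw [Coords.code, dif_pos h]
  exact h.choose_spec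

theorem Coords.code_lt (u : C) : S.code u < 128 := by
  unfold Coords.code
  split_ifs with h
  exacts [h.choose_spec.1, by norm_num]

theorem Coords.code_ev {q : ℕ} (hq : q < 128) : S.code (S.ev q) = q :=
  S.inj _ _ (S.code_lt _) hq (S.code_spec (S.mem q)).2

theorem Coords.code_mul {u v : C} (hu : u ∈ K.Q) (hv : v ∈ K.Q) : S.code (u * v) = qm (S.code u) (S.code v) := by
  conv_lhs => rw [← (S.code_spec hu).2, ← (S.code_spec hv).2, S.hmul _ _ (S.code_lt _) (S.code_lt _),
    S.code_ev (qm_lt _ _)]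

theorem Coords.ev_zero : S.ev 0 = 1 := by
  have h := S.hmul 0 0 (by norm_num) (by norm_num)
  rw [qm_self_idem] at h
  exact mul_eq_left.1 h

theorem Coords.ev_inv {q : ℕ} (hq : q < 128) : (S.ev q)⁻¹ = S.ev (qi q) := by
  refine inv_eq_of_mul_eq_one_left ?_
  rw [S.hmul _ _ (qi_lt q) hq, (qm_zero_low q hq).2.1, S.ev_zero]

/-- the action on the quotient -/
noncomputable def Coords.act (g : C) (v : ℕ) : ℕ := S.code (g * S.ev v * g⁻¹) % 64

theorem Coords.act_lt (g : C) (v : ℕ) : S.act g v < 64 := Nat.mod_lt _ (by norm_num)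

theorem Coords.act_of_mod (g : C) {q : ℕ} (hq : q < 128) : S.code (g * S.ev q * g⁻¹) % 64 = S.act g (q % 64) := by
  have h1 : q % 64 < 128 := by omega
  have h2 : 64 * (q / 64) < 128 := by omega
  conv_lhs => rw [(qm_zero_low q hq).2.2, ← S.hmul _ _ h1 h2,
    show g * (S.ev (q % 64) * S.ev (64 * (q / 64))) * g⁻¹ =
      (g * S.ev (q % 64) * g⁻¹) * (g * S.ev (64 * (q / 64)) * g⁻¹) by group]
  rw [S.code_mul (K.conj_mem g (S.mem _)) (K.conj_mem g (S.mem _)), qm_mod]
  have hz : S.code (g * S.ev (64 * (q / 64)) * g⁻¹) % 64 = 0 := by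
    have hq' : q / 64 = 0 ∨ q / 64 = 1 := by omega
    rcases hq' with h | h <;> rw [h]
    · rw [mul_zero, S.ev_zero, mul_one, mul_inv_cancel, ← S.ev_zero, S.code_ev (by norm_num)]
    · rw [mul_one, S.central, K.t_central g, mul_inv_cancel_right, ← S.central, S.code_ev (by norm_num)]
  rw [hz, Nat.xor_zero]
  rfl

theorem Coords.act_mul (g k : C) {v : ℕ} (hv : v < 64) : S.act (g * k) v = S.act g (S.act k v) := by
  have hk := S.code_spec (K.conj_mem k (S.mem v))
  show S.code (g * k * S.ev v * (g * k)⁻¹) % 64 = _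
  rw [show g * k * S.ev v * (g * k)⁻¹ = g * (k * S.ev v * k⁻¹) * g⁻¹ by group, ← hk.2, S.act_of_mod g hk.1]
  rfl

theorem Coords.act_mem {g : C} (hg : g ∈ K.Q) {v : ℕ} (hv : v < 64) : S.act g v = v := by
  obtain ⟨c, hc, rfl⟩ := S.surj g hg
  show S.code (S.ev c * S.ev v * (S.ev c)⁻¹) % 64 = v
  rw [S.ev_inv hc, S.hmul _ _ hc (by omega), S.hmul _ _ (qm_lt _ _) (qi_lt _), S.code_ev (qm_lt _ _), qm_mod, qm_mod,
    qi_mod, Nat.xor_comm (c % 64), Nat.xor_assoc, Nat.xor_self, Nat.xor_zero, Nat.mod_eq_of_lt hv]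

theorem Coords.act_one {v : ℕ} (hv : v < 64) : S.act 1 v = v := S.act_mem (one_mem _) hv

theorem Coords.act_xor (g : C) {v w : ℕ} (hv : v < 64) (hw : w < 64) : S.act g (v ^^^ w) = S.act g v ^^^ S.act g w := by
  have h := S.act_of_mod g (qm_lt v w)
  rw [qm_mod, Nat.mod_eq_of_lt hv, Nat.mod_eq_of_lt hw, ← S.hmul v w (by omega) (by omega),
    show g * (S.ev v * S.ev w) * g⁻¹ = (g * S.ev v * g⁻¹) * (g * S.ev w * g⁻¹) by group,
    S.code_mul (K.conj_mem g (S.mem _)) (K.conj_mem g (S.mem _)), qm_mod] at h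
  exact h.symm

theorem Coords.act_zero (g : C) : S.act g 0 = 0 := by
  show S.code (g * S.ev 0 * g⁻¹) % 64 = 0
  rw [S.ev_zero, mul_one, mul_inv_cancel, ← S.ev_zero, S.code_ev (by norm_num)]

/-- the six images -/
noncomputable def Coords.imgs (g : C) : List ℕ :=
  [S.act g 1, S.act g 2, S.act g 4, S.act g 8, S.act g 16, S.act g 32]

theorem Coords.linM_act (g : C) {v : ℕ} (hv : v < 64) : linM (S.imgs g) v = S.act g v := by
  have hb : ∀ p b, p < 64 → b < 2 → p * b < 64 ∧ S.act g (p * b) = S.act g p * b := by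
    intro p b hp hb
    interval_cases b <;> simp [S.act_zero, hp]
  obtain ⟨m0, e0⟩ := hb 1 (v % 2) (by norm_num) (by omega)
  obtain ⟨m1, e1⟩ := hb 2 (v / 2 % 2) (by norm_num) (by omega)
  obtain ⟨m2, e2⟩ := hb 4 (v / 4 % 2) (by norm_num) (by omega)
  obtain ⟨m3, e3⟩ := hb 8 (v / 8 % 2) (by norm_num) (by omega)
  obtain ⟨m4, e4⟩ := hb 16 (v / 16 % 2) (by norm_num) (by omega)
  obtain ⟨m5, e5⟩ := hb 32 (v / 32 % 2) (by norm_num) (by omega)
  have n1 := xor_lt64 _ m0 _ m1
  have n2 := xor_lt64 _ n1 _ m2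
  have n3 := xor_lt64 _ n2 _ m3
  have n4 := xor_lt64 _ n3 _ m4
  conv_rhs => rw [bits_split v hv, S.act_xor g n4 m5, S.act_xor g n3 m4, S.act_xor g n2 m3, S.act_xor g n1 m2,
    S.act_xor g m0 m1, e0, e1, e2, e3, e4, e5]
  simp [linM, Coords.imgs]

theorem Coords.imgs_y : S.imgs y = imgY := by
  have h : ∀ i < 6, S.act y (2 ^ i) = imgY.getD i 0 := fun i hi => by
    show S.code (y * S.ev (2 ^ i) * y⁻¹) % 64 = _
    rw [S.hy i (by omega), S.code_ev (by interval_cases i <;> decide), imgY_low i hi]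
  have := h 0 (by norm_num); have := h 1 (by norm_num); have := h 2 (by norm_num)
  have := h 3 (by norm_num); have := h 4 (by norm_num); have := h 5 (by norm_num)
  simp_all [Coords.imgs, imgY]

theorem Coords.act_pow_y (n : ℕ) {v : ℕ} (hv : v < 64) : S.act (y ^ n) v = iterY n v := by
  induction n with
  | zero => rw [pow_zero, S.act_one hv]; rfl
  | succ n ih =>
    rw [pow_succ', S.act_mul _ _ hv, ih]
    show _ = linM imgY (iterY n v)
    rw [← S.imgs_y, S.linM_act y (ih ▸ S.act_lt _ _)]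

theorem Coords.cbit_act (g : C) {v w : ℕ} (hv : v < 64) (hw : w < 64) :
    cbit (S.act g v) (S.act g w) = cbit v w := by
  have hv' := S.code_spec (K.conj_mem g (S.mem v))
  have hw' := S.code_spec (K.conj_mem g (S.mem w))
  set a := S.code (g * S.ev v * g⁻¹) with ha
  set b := S.code (g * S.ev w * g⁻¹) with hb
  have l1 : 64 * cbit v w < 128 := by have := Nat.mod_lt (betaTab >>> ((v / 8 % 8) * 8 + w % 8) +
    betaTab >>> ((w / 8 % 8) * 8 + v % 8)) (show 2 > 0 by norm_num); unfold cbit; omega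
  have l2 : 64 * cbit a b < 128 := by have := Nat.mod_lt (betaTab >>> ((a / 8 % 8) * 8 + b % 8) +
    betaTab >>> ((b / 8 % 8) * 8 + a % 8)) (show 2 > 0 by norm_num); unfold cbit; omega
  have e : S.ev v * S.ev w = S.ev (64 * cbit v w) * (S.ev w * S.ev v) := by
    rw [S.hmul _ _ (by omega) (by omega), S.hmul _ _ (by omega) (by omega : v < 128),
      S.hmul _ _ l1 (qm_lt _ _), ← qm_comm v (by omega) w (by omega)]
  have e' : S.ev a * S.ev b = S.ev (64 * cbit a b) * (S.ev b * S.ev a) := by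
    rw [S.hmul _ _ hv'.1 hw'.1, S.hmul _ _ hw'.1 hv'.1, S.hmul _ _ l2 (qm_lt _ _), ← qm_comm a hv'.1 b hw'.1]
  have hc : g * S.ev (64 * cbit v w) * g⁻¹ = S.ev (64 * cbit v w) := by
    have : cbit v w = 0 ∨ cbit v w = 1 := by omega
    rcases this with h | h <;> rw [h]
    · rw [mul_zero, S.ev_zero, mul_one, mul_inv_cancel]
    · rw [mul_one, S.central, K.t_central g, mul_inv_cancel_right]
  have e'' : S.ev a * S.ev b = S.ev (64 * cbit v w) * (S.ev b * S.ev a) := by
    rw [hv'.2, hw'.2, show g * S.ev v * g⁻¹ * (g * S.ev w * g⁻¹) = g * (S.ev v * S.ev w) * g⁻¹ by group, e,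
      show g * (S.ev (64 * cbit v w) * (S.ev w * S.ev v)) * g⁻¹ =
        (g * S.ev (64 * cbit v w) * g⁻¹) * (g * S.ev w * g⁻¹ * (g * S.ev v * g⁻¹)) by group, hc]
  have := S.inj _ _ l2 l1 (mul_right_cancel (e'.symm.trans e''))
  show cbit (a % 64) (b % 64) = _
  rw [← cbit_low a hv'.1 b hw'.1]
  omega

theorem Coords.act_sing (g : C) {i : ℕ} (hi : i < 6) : singMask.testBit (S.act g (2 ^ i)) = true := by
  have hp : 2 ^ i < 128 := by interval_cases i <;> norm_num
  have hc := S.code_spec (K.conj_mem g (S.mem (2 ^ i)))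
  set a := S.code (g * S.ev (2 ^ i) * g⁻¹) with ha
  have h0 : qm (2 ^ i) (2 ^ i) = 0 := by interval_cases i <;> decide +kernel
  have : qm a a = 0 := S.inj _ _ (qm_lt _ _) (by norm_num) (by
    rw [← S.hmul _ _ hc.1 hc.1, hc.2,
      show g * S.ev (2 ^ i) * g⁻¹ * (g * S.ev (2 ^ i) * g⁻¹) = g * (S.ev (2 ^ i) * S.ev (2 ^ i)) * g⁻¹ by group,
      S.hmul _ _ hp hp, h0, S.ev_zero]
    group)
  exact (div_mod_iff _ _).1 ((sing_ok _ (S.act_lt g _)).2 ((qm_zero_low a hc.1).1.1 this))

/-- The six images of an involution with product of order three form one of the tabulated lists. -/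
theorem Coords.in_solList {α : C} (h2 : α * α ∈ K.Q) (h3 : (α * y) ^ 3 ∈ K.Q) :
    ∃ s ∈ solList, s.1 = S.imgs α := by
  have hp : ∀ i, i < 6 → 2 ^ i < 64 := fun i hi => by interval_cases i <;> norm_num
  have hinv : ∀ v < 64, linM (S.imgs α) (linM (S.imgs α) v) = v := fun v hv => by
    rw [S.linM_act α hv, S.linM_act α (S.act_lt _ _), ← S.act_mul α α hv, S.act_mem h2 hv]
  have hY : ∀ v < 64, linM (S.imgs α) (linM imgY v) = S.act (α * y) v := fun v hv => by
    rw [← S.imgs_y, S.linM_act y hv, S.linM_act α (S.act_lt _ _), S.act_mul α y hv]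
  have hcube : ∀ v < 64, linM (S.imgs α) (linM imgY (linM (S.imgs α) (linM imgY (linM (S.imgs α) (linM imgY v))))) =
      v := fun v hv => by
    rw [hY v hv, hY _ (S.act_lt _ _), hY _ (S.act_lt _ _), ← S.act_mul _ _ hv, ← S.act_mul _ _ hv,
      show α * y * (α * y * (α * y)) = (α * y) ^ 3 by rw [pow_three], S.act_mem h3 hv]
  have ha0 : S.act α 1 ≠ 0 := by
    intro e
    have := hinv 1 (by norm_num)
    rw [S.linM_act α (by norm_num : (1 : ℕ) < 64), e, S.linM_act α (by norm_num : (0 : ℕ) < 64), S.act_zero] at this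
    exact zero_ne_one this
  have hsearch := searchAt_ok (S.act_lt α 1) ha0 ((div_mod_iff _ _).2 (S.act_sing α (i := 0) (by norm_num)))
  unfold searchAt at hsearch
  have l : ∀ v, S.act α v < 64 := S.act_lt α
  have cb : ∀ p q, p < 64 → q < 64 → cbit (S.act α p) (S.act α q) = cbit q p := fun p q hp hq => by
    rw [S.cbit_act α hp hq, cbit_symm p hp q hq]
  have r1 := allBits_mem hsearch (l 8) (testBit_restrict (S.act_sing α (i := 3) (by norm_num))
    (adj_bit (l 1) (l 8) (cb 1 8 (by norm_num) (by norm_num))))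
  have r2 := allBits_mem r1 (l 2) (testBit_restrict (testBit_restrict (S.act_sing α (i := 1) (by norm_num))
    (adj_bit (l 1) (l 2) (cb 1 2 (by norm_num) (by norm_num))))
    (adj_bit (l 8) (l 2) (cb 8 2 (by norm_num) (by norm_num))))
  have r3 := allBits_mem r2 (l 16) (testBit_restrict (testBit_restrict (testBit_restrict
    (S.act_sing α (i := 4) (by norm_num))
    (adj_bit (l 1) (l 16) (cb 1 16 (by norm_num) (by norm_num))))
    (adj_bit (l 8) (l 16) (cb 8 16 (by norm_num) (by norm_num))))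
    (adj_bit (l 2) (l 16) (cb 2 16 (by norm_num) (by norm_num))))
  have r4 := allBits_mem r3 (l 4) (testBit_restrict (testBit_restrict (testBit_restrict (testBit_restrict
    (S.act_sing α (i := 2) (by norm_num))
    (adj_bit (l 1) (l 4) (cb 1 4 (by norm_num) (by norm_num))))
    (adj_bit (l 8) (l 4) (cb 8 4 (by norm_num) (by norm_num))))
    (adj_bit (l 2) (l 4) (cb 2 4 (by norm_num) (by norm_num))))
    (adj_bit (l 16) (l 4) (cb 16 4 (by norm_num) (by norm_num))))
  have r5 := allBits_mem r4 (l 32) (testBit_restrict (testBit_restrict (testBit_restrict (testBit_restrict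
    (testBit_restrict (S.act_sing α (i := 5) (by norm_num))
    (adj_bit (l 1) (l 32) (cb 1 32 (by norm_num) (by norm_num))))
    (adj_bit (l 8) (l 32) (cb 8 32 (by norm_num) (by norm_num))))
    (adj_bit (l 2) (l 32) (cb 2 32 (by norm_num) (by norm_num))))
    (adj_bit (l 16) (l 32) (cb 16 32 (by norm_num) (by norm_num))))
    (adj_bit (l 4) (l 32) (cb 4 32 (by norm_num) (by norm_num))))
  unfold leafOK at r5
  rw [Bool.or_eq_true] at r5
  rcases r5 with h | h
  · exfalso
    rw [Bool.not_eq_true'] at h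
    have : ((linM (S.imgs α) (linM (S.imgs α) 1) == 1) &&
        ((List.range 6).all fun i => linM (S.imgs α) (linM (S.imgs α) (2 ^ i)) == 2 ^ i) &&
        ((List.range 6).all fun i => linM (S.imgs α) (linM imgY (linM (S.imgs α) (linM imgY
          (linM (S.imgs α) (linM imgY (2 ^ i)))))) == 2 ^ i)) = true := by
      simp only [Bool.and_eq_true, beq_iff_eq, List.all_eq_true, List.mem_range]
      exact ⟨⟨hinv 1 (by norm_num), fun i hi => hinv _ (hp i hi)⟩, fun i hi => hcube _ (hp i hi)⟩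
    exact Bool.false_ne_true (h.symm.trans this)
  · simp only [List.any_eq_true, beq_iff_eq] at h
    exact h

theorem Coords.act_gen (D : Dat) (hD : D.OK) (x : Bool) (g : C)
    (h : ∀ i < 7, g * S.ev (2 ^ i) * g⁻¹ = S.ev (D.imgOf x i)) {q : ℕ} (hq : q < 128) :
    g * S.ev q * g⁻¹ = S.ev (D.im x q) := by
  have key : ∀ i, i ≤ 7 → D.imN x i q < 128 ∧ g * S.ev (q % 2 ^ i) * g⁻¹ = S.ev (D.imN x i q) := by
    intro i
    induction i with
    | zero =>
      intro _
      refine ⟨by simp [Dat.imN], ?_⟩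
      rw [Nat.pow_zero, Nat.mod_one, S.ev_zero, mul_one, mul_inv_cancel, Dat.imN, S.ev_zero]
    | succ i ih =>
      intro hi
      obtain ⟨h1, h2⟩ := ih (by omega)
      by_cases hb : q / 2 ^ i % 2 = 1
      · rw [Dat.imN, if_pos hb]
        refine ⟨qm_lt _ _, ?_⟩
        have hp : 2 ^ i < 128 := by
          calc 2 ^ i < 2 ^ 7 := Nat.pow_lt_pow_right (by norm_num) (by omega)
            _ = 128 := by norm_num
        have hlt : q % 2 ^ i < 128 := (Nat.mod_lt _ (by positivity)).trans hp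
        have hi7 : D.imgOf x i < 128 := ((Dat.q_facts hD (show i < 128 by omega)).2.2.2.1 x).2.2 (by omega)
        rw [low_ok q hq i (by omega) hb, ← S.hmul _ _ hlt hp,
          show g * (S.ev (q % 2 ^ i) * S.ev (2 ^ i)) * g⁻¹ =
            (g * S.ev (q % 2 ^ i) * g⁻¹) * (g * S.ev (2 ^ i) * g⁻¹) by group, h2, h i (by omega)]
        exact S.hmul _ _ h1 hi7
      · rw [Dat.imN, if_neg hb]
        refine ⟨h1, ?_⟩
        have : q % 2 ^ (i + 1) = q % 2 ^ i := by
          rw [Nat.mod_pow_succ, show q / 2 ^ i % 2 = 0 by omega, mul_zero, add_zero]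
        rw [this, h2]
  obtain ⟨-, h7⟩ := key 7 le_rfl
  rw [show q % 2 ^ 7 = q from Nat.mod_eq_of_lt (by simpa using hq)] at h7
  rw [h7, ((Dat.q_facts hD hq).2.2.2.1 x).1]

theorem Coords.act_list (D : Dat) (hD : D.OK) (gx : Bool → C)
    (h : ∀ x, ∀ i < 7, gx x * S.ev (2 ^ i) * (gx x)⁻¹ = S.ev (D.imgOf x i)) :
    ∀ (R : List Bool) {q : ℕ}, q < 128 → (R.map gx).prod * S.ev q * ((R.map gx).prod)⁻¹ = S.ev (D.imw R q)
  | [], q, _ => by simp [Dat.imw]
  | x :: R, q, hq => by
    rw [List.map_cons, List.prod_cons,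
      show gx x * (R.map gx).prod * S.ev q * (gx x * (R.map gx).prod)⁻¹ =
        gx x * ((R.map gx).prod * S.ev q * ((R.map gx).prod)⁻¹) * (gx x)⁻¹ by group,
      Coords.act_list D hD gx h R hq, S.act_gen D hD x (gx x) (h x) (Dat.imw_lt hD R hq), Dat.imw]

theorem Coords.trivial_act {g : C} (h : ∀ q < 128, g * S.ev q * g⁻¹ = S.ev q) : ∃ b, g = K.tp b := by
  have hc : ∀ u ∈ K.Q, g * u = u * g := fun u hu => by
    obtain ⟨q, hq, rfl⟩ := S.surj u hu
    exact mul_inv_eq_iff_eq_mul.1 (h q hq)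
  have hg := K.self_cent g hc
  exact K.exists_tp hg fun v hv => K.bet_eq hg hv (by rw [tp_zero, one_mul]; exact hc v hv)

theorem Coords.tp_eq (b : ZMod 2) : K.tp b = S.ev (64 * b.val) := by
  rcases zmod_two_cases b with rfl | rfl
  · simp [S.ev_zero]
  · rw [tp_one, ZMod.val_one, mul_one, S.central]

end Ctx

open Ctx in
/-- An extraspecial self-centralising normal subgroup with quotient SL(3, 2) determines one of six cases. -/
theorem exists_sys {C : Type u} [Group C] [Finite C] (Q : Subgroup C) [Q.Normal] (t : C) (ht : orderOf t = 2)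
    (hct : ∀ x, x * t = t * x) (hQ : Cfsg.IsExtraspecial 2 Q) (hcard : Nat.card Q = 2 ^ 7)
    (h2c : Subgroup.centralizer (Q : Set C) ≤ Q) (e : C ⧸ Q ≃* Matrix.SpecialLinearGroup (Fin 3) (ZMod 2)) :
    ∃ (m : Fin 3) (ε : Bool) (S : Sys C (dat m ε)), S.ev 64 = t := by
  obtain ⟨K, rfl, rfl⟩ := ctx_of_extraspecial Q t ht hct hQ hcard h2c
  set π : C →* Matrix.SpecialLinearGroup (Fin 3) (ZMod 2) := e.toMonoidHom.comp (QuotientGroup.mk' K.Q) with hπ
  have hker : ∀ x, π x = 1 ↔ x ∈ K.Q := fun x => by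
    rw [hπ, MonoidHom.comp_apply]
    exact e.map_eq_one_iff.trans (QuotientGroup.eq_one_iff x)
  have hsur : Function.Surjective π := e.surjective.comp (QuotientGroup.mk'_surjective _)
  -- an element of order seven
  obtain ⟨y, hy, hy1⟩ : ∃ y : C, y ^ 7 = 1 ∧ y ≠ 1 := by
    haveI : Fact (Nat.Prime 7) := ⟨by norm_num⟩
    obtain ⟨z, hz⟩ := hsur ⟨mat3 94, by decide +kernel⟩
    have h7 : orderOf (π z) = 7 := by
      rw [hz]
      exact orderOf_eq_prime (by decide +kernel)
        fun h => absurd (congrArg enc3 (congrArg Subtype.val h)) (by decide +kernel)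
    obtain ⟨k, hk⟩ : 7 ∣ orderOf z := h7 ▸ orderOf_map_dvd π z
    refine ⟨z ^ k, by rw [← pow_mul, mul_comm, ← hk, pow_orderOf_eq_one], fun h => ?_⟩
    have hpos := orderOf_pos z
    have hd := orderOf_dvd_of_pow_eq_one h
    have hk0 : 0 < k := by omega
    have := Nat.le_of_dvd hk0 hd
    omega
  obtain ⟨S⟩ := K.exists_coords hy hy1
  have hπy : π y ≠ 1 := fun h => by
    have h7 : orderOf y = 7 := @orderOf_eq_prime _ _ y 7 ⟨by norm_num⟩ hy hy1
    have hd := Subgroup.orderOf_dvd_natCard K.Q ((hker y).1 h)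
    rw [h7, K.card] at hd
    norm_num at hd
  obtain ⟨ā, ha2, ha3⟩ := exists_partner (π y) (by rw [← map_pow, hy, map_one]) hπy
  obtain ⟨α, rfl⟩ := hsur ā
  have q2 : α * α ∈ K.Q := (hker _).1 (by rw [map_mul, ha2])
  have q3 : (α * y) ^ 3 ∈ K.Q := (hker _).1 (by rw [map_pow, map_mul, ha3])
  obtain ⟨s, hs, hsA⟩ := S.in_solList q2 q3
  obtain ⟨hk, m, hm⟩ := sol_rep s hs
  -- conjugate to the representative
  set k := s.2.2
  set α1 := y ^ (7 - k) * α * y ^ k with hα1
  have hp : ∀ i, i < 6 → 2 ^ i < 64 := fun i hi => by interval_cases i <;> norm_num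
  have hA : ∀ i < 6, S.act α1 (2 ^ i) = (dat m false).imgOf false i % 64 := fun i hi => by
    rw [← hm i hi, hα1, S.act_mul _ _ (hp i hi), S.act_mul _ _ (S.act_lt _ _), S.act_pow_y k (hp i hi)]
    have hl : iterY k (2 ^ i) < 64 := S.act_pow_y k (hp i hi) ▸ S.act_lt _ _
    rw [← S.linM_act α hl, ← hsA, S.act_pow_y _ (by rw [hsA, S.linM_act α hl]; exact S.act_lt _ _)]
  -- correct the signs
  set c := fun i : ℕ => S.code (α1 * S.ev (2 ^ i) * α1⁻¹) with hc
  have hcl : ∀ i, c i < 128 := fun i => S.code_lt _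
  obtain ⟨q, hq, hfix⟩ := sign_fix m (c 0 / 64 + 2 * (c 1 / 64) + 4 * (c 2 / 64) + 8 * (c 3 / 64) + 16 * (c 4 / 64) +
    32 * (c 5 / 64)) (by have := hcl 0; have := hcl 1; have := hcl 2; have := hcl 3; have := hcl 4; have := hcl 5; omega)
  set α2 := S.ev q * α1 with hα2
  have h6 : ∀ i < 7, α2 * S.ev (2 ^ i) * α2⁻¹ = S.ev ((dat m false).imgOf false i) := by
    intro i hi
    by_cases h : i = 6
    · subst h
      rw [(img_six m false).1, show (2 : ℕ) ^ 6 = 64 from rfl, S.central, K.t_central α2, mul_inv_cancel_right]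
    · have hi6 : i < 6 := by omega
      have e1 := (S.code_spec (K.conj_mem α1 (S.mem (2 ^ i)))).2
      have hmod : c i % 64 = (dat m false).imgOf false i % 64 := hA i hi6
      rw [hα2, show S.ev q * α1 * S.ev (2 ^ i) * (S.ev q * α1)⁻¹ =
        S.ev q * (α1 * S.ev (2 ^ i) * α1⁻¹) * (S.ev q)⁻¹ by group, ← e1, S.ev_inv (by omega),
        S.hmul _ _ (by omega) (hcl i), S.hmul _ _ (qm_lt _ _) (qi_lt _)]
      conv_rhs => rw [← hfix i hi6]
      congr 3
      show c i = _
      have := hcl 0; have := hcl 1; have := hcl 2; have := hcl 3; have := hcl 4; have := hcl 5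
      interval_cases i <;> norm_num <;> omega
  have hy' : ∀ i < 7, y * S.ev (2 ^ i) * y⁻¹ = S.ev ((dat m false).imgOf true i) := fun i hi => by
    rw [S.hy i hi, imgY7_gen m false i hi]
  have hD := dat_ok m false
  set gx2 : Bool → C := fun x => if x then y else α2 with hgx2
  have hgx : ∀ x, ∀ i < 7, gx2 x * S.ev (2 ^ i) * (gx2 x)⁻¹ = S.ev ((dat m false).imgOf x i) := by
    intro x i hi
    cases x
    · exact h6 i hi
    · exact hy' i hi
  obtain ⟨b, hb⟩ := S.trivial_act (g := α2 * α2) fun q hq => by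
    have h := S.act_list _ hD gx2 hgx [false, false] hq
    simp only [Dat.imw, (Dat.q_facts hD hq).2.2.2.2.1] at h
    simpa [gx2] using h
  obtain ⟨d, hd⟩ := S.trivial_act (g := (α2 * y) ^ 3) fun q hq => by
    have h := S.act_list _ hD gx2 hgx [false, true, false, true, false, true] hq
    simp only [Dat.imw, (Dat.q_facts hD hq).2.2.2.2.2.1] at h
    simpa [gx2, pow_three, mul_assoc] using h
  set ε : Bool := decide (b = 1) with hε
  set α3 := K.tp d * α2 with hα3
  have hsq : α3 * α3 = S.ev (dat m ε).e64 := by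
    rw [hα3, (show Commute α2 (K.tp d) from K.tp_comm d α2).mul_mul_mul_comm, ← K.tp_add, hb, ← K.tp_add, S.tp_eq]
    congr 1
    rcases zmod_two_cases b with rfl | rfl <;> rcases zmod_two_cases d with rfl | rfl <;>
      fin_cases m <;> rfl
  have hcube : (α3 * y) ^ 3 = 1 := by
    rw [hα3, mul_assoc, ((show Commute (K.tp d) (α2 * y) from (K.tp_comm d _).symm)).mul_pow, hd, pow_three,
      ← K.tp_add, ← K.tp_add, ← K.tp_add, show ∀ d : ZMod 2, d + (d + d) + d = 0 by decide, tp_zero]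
  have hD' := dat_ok m ε
  set gx : Bool → C := fun x => if x then y else α3 with hgx3
  have hconj : ∀ x, ∀ i < 7, gx x * S.ev (2 ^ i) * (gx x)⁻¹ = S.ev ((dat m ε).imgOf x i) := by
    intro x i hi
    have he : (dat m ε).imgOf false i = (dat m false).imgOf false i := by
      cases hεb : ε
      · rfl
      · exact img_eps m i hi
    cases x
    · show α3 * S.ev (2 ^ i) * α3⁻¹ = _
      rw [he, hα3, show K.tp d * α2 * S.ev (2 ^ i) * (K.tp d * α2)⁻¹ =
        K.tp d * (α2 * S.ev (2 ^ i) * α2⁻¹) * (K.tp d)⁻¹ by group, h6 i hi, ← K.tp_comm, mul_inv_cancel_right]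
    · show y * S.ev (2 ^ i) * y⁻¹ = _
      rw [S.hy i hi, imgY7_gen m ε i hi]
  have hwinv : ∀ w : List Bool, ∃ z, ((Dat.winv w).map gx).prod = K.tp z * ((w.map gx).prod)⁻¹ := by
    intro w
    induction w with
    | nil => exact ⟨0, by simp [Dat.winv]⟩
    | cons x w ih =>
      obtain ⟨z, hz⟩ := ih
      have hx : ∃ z', (((if x then List.replicate 6 true else [false]) : List Bool).map gx).prod =
          K.tp z' * (gx x)⁻¹ := by
        cases x
        · obtain ⟨z', hz'⟩ : ∃ z', S.ev (dat m ε).e64 = K.tp z' := by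
            rcases Dat.e64_cases (dat m ε) with h | h <;> rw [h]
            exacts [⟨0, by rw [tp_zero, S.ev_zero]⟩, ⟨1, by rw [tp_one, S.central]⟩]
          refine ⟨z', ?_⟩
          show ([α3] : List C).prod = K.tp z' * α3⁻¹
          rw [← hz', ← hsq, List.prod_singleton, mul_inv_cancel_right]
        · refine ⟨0, ?_⟩
          rw [if_pos rfl, List.map_replicate, List.prod_replicate, tp_zero, one_mul]
          show y ^ 6 = y⁻¹
          exact eq_inv_of_mul_eq_one_left (by rw [← pow_succ]; exact hy)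
      obtain ⟨z', hz'⟩ := hx
      refine ⟨z + z', ?_⟩
      rw [Dat.winv, List.map_append, List.prod_append, hz, hz', List.map_cons, List.prod_cons, mul_inv_rev, K.tp_add,
        show K.tp z * ((w.map gx).prod)⁻¹ * (K.tp z' * (gx x)⁻¹) =
          K.tp z * (((w.map gx).prod)⁻¹ * K.tp z') * (gx x)⁻¹ by group, K.tp_comm]
      group
  have hact := fun R {q} hq => S.act_list (dat m ε) hD' gx hconj R (q := q) hq
  set W := ((dat m ε).conjWord.map gx).prod with hW
  have hW2 : W * W = S.ev (dat m ε).e64 := by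
    obtain ⟨z, hz⟩ := hwinv (dat m ε).w
    obtain ⟨z', hz'⟩ : ∃ z', S.ev (dat m ε).e64 = K.tp z' := by
      rcases Dat.e64_cases (dat m ε) with h | h <;> rw [h]
      exacts [⟨0, by rw [tp_zero, S.ev_zero]⟩, ⟨1, by rw [tp_one, S.central]⟩]
    have e1 : W = K.tp z * ((((dat m ε).w.map gx).prod) * α3 * (((dat m ε).w.map gx).prod)⁻¹) := by
      rw [hW, Dat.conjWord, List.map_append, List.map_append, List.prod_append, List.prod_append, hz, ← mul_assoc,
        K.tp_comm]
      simp [gx, mul_assoc]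
    rw [e1, (show Commute _ (K.tp z) from K.tp_comm z _).mul_mul_mul_comm, ← K.tp_add,
      show ∀ z : ZMod 2, z + z = 0 by decide, tp_zero, one_mul]
    rw [show ((dat m ε).w.map gx).prod * α3 * (((dat m ε).w.map gx).prod)⁻¹ *
        (((dat m ε).w.map gx).prod * α3 * (((dat m ε).w.map gx).prod)⁻¹) =
      ((dat m ε).w.map gx).prod * (α3 * α3) * (((dat m ε).w.map gx).prod)⁻¹ by group, hsq, hz', K.tp_comm,
      mul_inv_cancel_right]
  have hgg : ((dat m ε).g.map gx).prod * ((dat m ε).g.map gx).prod = S.ev (dat m ε).v := by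
    obtain ⟨hv, hc128, -⟩ := Dat.v_facts hD'
    set gp := ((dat m ε).g.map gx).prod with hgp
    obtain ⟨z, hz⟩ := S.trivial_act (g := (S.ev (dat m ε).c * W)⁻¹ * gp) fun q hq => by
      have e1 := hact (dat m ε).g hq
      rw [← hgp, (Dat.q_facts hD' hq).2.2.2.2.2.2, ← S.hmul _ _ (qm_lt _ _) (qi_lt _),
        ← S.hmul _ _ hc128 (Dat.imw_lt hD' _ hq), ← S.ev_inv hc128, ← hact (dat m ε).conjWord hq, ← hW] at e1
      rw [show (S.ev (dat m ε).c * W)⁻¹ * gp * S.ev q * ((S.ev (dat m ε).c * W)⁻¹ * gp)⁻¹ =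
        (S.ev (dat m ε).c * W)⁻¹ * (gp * S.ev q * gp⁻¹) * (S.ev (dat m ε).c * W) by group, e1]
      group
    have e2 : gp = K.tp z * (S.ev (dat m ε).c * W) := by rw [← K.tp_comm, ← hz, mul_inv_cancel_left]
    rw [e2, (show Commute _ (K.tp z) from K.tp_comm z _).mul_mul_mul_comm, ← K.tp_add,
      show ∀ z : ZMod 2, z + z = 0 by decide, tp_zero, one_mul, hv, ← S.hmul _ _ (qm_lt _ _) Dat.e64_lt,
      ← S.hmul _ _ hc128 (Dat.imw_lt hD' _ hc128), ← hact (dat m ε).conjWord hc128, ← hW, ← hW2]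
    group
  refine ⟨m, ε, ⟨S.ev, S.hmul, S.inj, gx, hconj, ?_⟩, S.central⟩
  intro r hr
  simp only [Dat.rels, List.mem_cons, List.mem_nil_iff, or_false] at hr
  rcases hr with rfl | rfl | rfl | rfl
  · simpa [gx] using hsq
  · simpa [gx, S.ev_zero, pow_succ', mul_assoc] using hy
  · simpa [gx, S.ev_zero, pow_three, mul_assoc] using hcube
  · rw [List.map_append, List.prod_append]
    exact hgg

end Cfsg.Agent.Spor.HeldCent
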