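import Mathlib
import Cfsg.Agent.Lib.Spor.HeldCent.Rep
import Cfsg.Agent.Lib.Spor.HeldCent.Model
import Cfsg.Agent.Lib.Spor.HeldCent.Kill
import Cfsg.Agent.Lib.Spor.SL5Transvection

/-!
The involution centraliser of shape 2^(1+6).L3(2) in a simple group of Held order is the centraliser of a
transvection in SL(5, 2).
-/

set_option autoImplicit false

namespace Cfsg.Agent.Spor.HeldCent

theorem card_of_shape {C : Type*} [Group C] [Finite C] (Q : Subgroup C) [Q.Normal] (hcard : Nat.card Q = 2 ^ 7)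
    (e : C ⧸ Q ≃* Matrix.SpecialLinearGroup (Fin 3) (ZMod 2)) : Nat.card C = 21504 := by
  have h3 : Nat.card (Matrix.SpecialLinearGroup (Fin 3) (ZMod 2)) = 168 := Cfsg.Agent.Spor.card_det_one_three
  rw [Subgroup.card_eq_card_quotient_mul_card_subgroup Q, hcard, Nat.card_congr e.toEquiv, h3]
  norm_num

theorem exists_iso {G : Type*} [Group G] [Finite G] [IsSimpleGroup G] (t : G) (ht : orderOf t = 2)
    (Q : Subgroup (Subgroup.centralizer ({t} : Set G))) [Q.Normal] (hQ : Cfsg.IsExtraspecial 2 Q)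
    (hcard : Nat.card Q = 2 ^ 7)
    (_hplus : ∃ E : Subgroup Q, Cfsg.IsElementaryAbelian 2 E ∧ Nat.card E = 2 ^ 4)
    (h2c : Subgroup.centralizer (Q : Set (Subgroup.centralizer ({t} : Set G))) ≤ Q)
    (e : (Subgroup.centralizer ({t} : Set G)) ⧸ Q ≃* Matrix.SpecialLinearGroup (Fin 3) (ZMod 2))
    (hG : Nat.card G = 4030387200)
    (htwo : ∃ x y : G, orderOf x = 2 ∧ orderOf y = 2 ∧ ¬ IsConj x y ∧
      ∀ z : G, orderOf z = 2 → IsConj z x ∨ IsConj z y)
    (s : Matrix.SpecialLinearGroup (Fin 5) (ZMod 2))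
    (hs : (s : Matrix (Fin 5) (Fin 5) (ZMod 2)) = Matrix.transvection 0 1 1) :
    Nonempty (Subgroup.centralizer ({t} : Set G) ≃*
      Subgroup.centralizer ({s} : Set (Matrix.SpecialLinearGroup (Fin 5) (ZMod 2)))) := by
  have htm : t ∈ Subgroup.centralizer ({t} : Set G) := Subgroup.mem_centralizer_singleton_iff.2 rfl
  have hot : orderOf (⟨t, htm⟩ : Subgroup.centralizer ({t} : Set G)) = 2 := by
    rw [← Subgroup.orderOf_coe]; exact ht
  obtain ⟨m, ε, S, hS⟩ := exists_sys Q ⟨t, htm⟩ hot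
    (fun x => Subtype.ext (Subgroup.mem_centralizer_singleton_iff.1 x.2)) hQ hcard h2c e
  have hC := card_of_shape Q hcard e
  obtain ⟨rfl, rfl⟩ := case_eq t ht hG htwo S hC (congrArg Subtype.val hS)
  obtain ⟨S'⟩ := exists_sys_model s hs
  exact S.iso (dat_ok 0 false) S' hC (Cfsg.Agent.Spor.card_tv_centralizer hs)

end Cfsg.Agent.Spor.HeldCent
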